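import Cfsg.Agent.Lib.Cert.Fi22s.C2D

set_option autoImplicit false
set_option maxRecDepth 100000

namespace Cfsg.Agent.Ct.Fi22s.C2

open Cfsg.Agent.PC

theorem cb2280 : Nat.beq (rng f2 (nat_lit 2280) (nat_lit 380)) (nat_lit 0) = true := by decide +kernel
theorem cb2660 : Nat.beq (rng f2 (nat_lit 2660) (nat_lit 380)) (nat_lit 0) = true := by decide +kernel
theorem cb3040 : Nat.beq (rng f2 (nat_lit 3040) (nat_lit 380)) (nat_lit 0) = true := by decide +kernel
theorem cb3420 : Nat.beq (rng f2 (nat_lit 3420) (nat_lit 380)) (nat_lit 0) = true := by decide +kernel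
theorem cb3800 : Nat.beq (rng f2 (nat_lit 3800) (nat_lit 380)) (nat_lit 0) = true := by decide +kernel
theorem cb4180 : Nat.beq (rng f2 (nat_lit 4180) (nat_lit 380)) (nat_lit 0) = true := by decide +kernel
theorem cb4560 : Nat.beq (rng f2 (nat_lit 4560) (nat_lit 380)) (nat_lit 0) = true := by decide +kernel
theorem cb4940 : Nat.beq (rng f2 (nat_lit 4940) (nat_lit 380)) (nat_lit 0) = true := by decide +kernel
theorem cb5320 : Nat.beq (rng f2 (nat_lit 5320) (nat_lit 380)) (nat_lit 0) = true := by decide +kernel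
theorem cb5700 : Nat.beq (rng f2 (nat_lit 5700) (nat_lit 380)) (nat_lit 0) = true := by decide +kernel

end Cfsg.Agent.Ct.Fi22s.C2
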