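import Cfsg.Agent.Lib.Cert.Fi22s.C2D

set_option autoImplicit false
set_option maxRecDepth 100000

namespace Cfsg.Agent.Ct.Fi22s.C2

open Cfsg.Agent.PC

theorem cb13680 : Nat.beq (rng f2 (nat_lit 13680) (nat_lit 380)) (nat_lit 0) = true := by decide +kernel
theorem cb14060 : Nat.beq (rng f2 (nat_lit 14060) (nat_lit 20)) (nat_lit 0) = true := by decide +kernel

end Cfsg.Agent.Ct.Fi22s.C2
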