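import Cfsg.Agent.Lib.Cert.Fi22s.C2R0
import Cfsg.Agent.Lib.Cert.Fi22s.C2R1
import Cfsg.Agent.Lib.Cert.Fi22s.C2R2
import Cfsg.Agent.Lib.Cert.Fi22s.C2R3
import Cfsg.Agent.Lib.Cert.Fi22s.C2R4

set_option autoImplicit false
set_option maxRecDepth 100000

namespace Cfsg.Agent.Ct.Fi22s.C2

open Cfsg.Agent.PC

open Cfsg.Agent.Fi Cfsg.Agent.Ct
theorem h1 : ∀ i < 28160, f1 i = 0 := by
  have h := zero_lt_zero f1
  have h := zero_lt_add (a := (nat_lit 0)) (n := (nat_lit 8333)) (b := (nat_lit 8333)) h ca0 rfl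
  have h := zero_lt_add (a := (nat_lit 8333)) (n := (nat_lit 8333)) (b := (nat_lit 16666)) h ca8333 rfl
  have h := zero_lt_add (a := (nat_lit 16666)) (n := (nat_lit 8333)) (b := (nat_lit 24999)) h ca16666 rfl
  have h := zero_lt_add (a := (nat_lit 24999)) (n := (nat_lit 3161)) (b := (nat_lit 28160)) h ca24999 rfl
  exact h
theorem h2 : ∀ i < 14080, f2 i = 0 := by
  have h := zero_lt_zero f2
  have h := zero_lt_add (a := (nat_lit 0)) (n := (nat_lit 380)) (b := (nat_lit 380)) h cb0 rfl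
  have h := zero_lt_add (a := (nat_lit 380)) (n := (nat_lit 380)) (b := (nat_lit 760)) h cb380 rfl
  have h := zero_lt_add (a := (nat_lit 760)) (n := (nat_lit 380)) (b := (nat_lit 1140)) h cb760 rfl
  have h := zero_lt_add (a := (nat_lit 1140)) (n := (nat_lit 380)) (b := (nat_lit 1520)) h cb1140 rfl
  have h := zero_lt_add (a := (nat_lit 1520)) (n := (nat_lit 380)) (b := (nat_lit 1900)) h cb1520 rfl
  have h := zero_lt_add (a := (nat_lit 1900)) (n := (nat_lit 380)) (b := (nat_lit 2280)) h cb1900 rfl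
  have h := zero_lt_add (a := (nat_lit 2280)) (n := (nat_lit 380)) (b := (nat_lit 2660)) h cb2280 rfl
  have h := zero_lt_add (a := (nat_lit 2660)) (n := (nat_lit 380)) (b := (nat_lit 3040)) h cb2660 rfl
  have h := zero_lt_add (a := (nat_lit 3040)) (n := (nat_lit 380)) (b := (nat_lit 3420)) h cb3040 rfl
  have h := zero_lt_add (a := (nat_lit 3420)) (n := (nat_lit 380)) (b := (nat_lit 3800)) h cb3420 rfl
  have h := zero_lt_add (a := (nat_lit 3800)) (n := (nat_lit 380)) (b := (nat_lit 4180)) h cb3800 rfl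
  have h := zero_lt_add (a := (nat_lit 4180)) (n := (nat_lit 380)) (b := (nat_lit 4560)) h cb4180 rfl
  have h := zero_lt_add (a := (nat_lit 4560)) (n := (nat_lit 380)) (b := (nat_lit 4940)) h cb4560 rfl
  have h := zero_lt_add (a := (nat_lit 4940)) (n := (nat_lit 380)) (b := (nat_lit 5320)) h cb4940 rfl
  have h := zero_lt_add (a := (nat_lit 5320)) (n := (nat_lit 380)) (b := (nat_lit 5700)) h cb5320 rfl
  have h := zero_lt_add (a := (nat_lit 5700)) (n := (nat_lit 380)) (b := (nat_lit 6080)) h cb5700 rfl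
  have h := zero_lt_add (a := (nat_lit 6080)) (n := (nat_lit 380)) (b := (nat_lit 6460)) h cb6080 rfl
  have h := zero_lt_add (a := (nat_lit 6460)) (n := (nat_lit 380)) (b := (nat_lit 6840)) h cb6460 rfl
  have h := zero_lt_add (a := (nat_lit 6840)) (n := (nat_lit 380)) (b := (nat_lit 7220)) h cb6840 rfl
  have h := zero_lt_add (a := (nat_lit 7220)) (n := (nat_lit 380)) (b := (nat_lit 7600)) h cb7220 rfl
  have h := zero_lt_add (a := (nat_lit 7600)) (n := (nat_lit 380)) (b := (nat_lit 7980)) h cb7600 rfl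
  have h := zero_lt_add (a := (nat_lit 7980)) (n := (nat_lit 380)) (b := (nat_lit 8360)) h cb7980 rfl
  have h := zero_lt_add (a := (nat_lit 8360)) (n := (nat_lit 380)) (b := (nat_lit 8740)) h cb8360 rfl
  have h := zero_lt_add (a := (nat_lit 8740)) (n := (nat_lit 380)) (b := (nat_lit 9120)) h cb8740 rfl
  have h := zero_lt_add (a := (nat_lit 9120)) (n := (nat_lit 380)) (b := (nat_lit 9500)) h cb9120 rfl
  have h := zero_lt_add (a := (nat_lit 9500)) (n := (nat_lit 380)) (b := (nat_lit 9880)) h cb9500 rfl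
  have h := zero_lt_add (a := (nat_lit 9880)) (n := (nat_lit 380)) (b := (nat_lit 10260)) h cb9880 rfl
  have h := zero_lt_add (a := (nat_lit 10260)) (n := (nat_lit 380)) (b := (nat_lit 10640)) h cb10260 rfl
  have h := zero_lt_add (a := (nat_lit 10640)) (n := (nat_lit 380)) (b := (nat_lit 11020)) h cb10640 rfl
  have h := zero_lt_add (a := (nat_lit 11020)) (n := (nat_lit 380)) (b := (nat_lit 11400)) h cb11020 rfl
  have h := zero_lt_add (a := (nat_lit 11400)) (n := (nat_lit 380)) (b := (nat_lit 11780)) h cb11400 rfl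
  have h := zero_lt_add (a := (nat_lit 11780)) (n := (nat_lit 380)) (b := (nat_lit 12160)) h cb11780 rfl
  have h := zero_lt_add (a := (nat_lit 12160)) (n := (nat_lit 380)) (b := (nat_lit 12540)) h cb12160 rfl
  have h := zero_lt_add (a := (nat_lit 12540)) (n := (nat_lit 380)) (b := (nat_lit 12920)) h cb12540 rfl
  have h := zero_lt_add (a := (nat_lit 12920)) (n := (nat_lit 380)) (b := (nat_lit 13300)) h cb12920 rfl
  have h := zero_lt_add (a := (nat_lit 13300)) (n := (nat_lit 380)) (b := (nat_lit 13680)) h cb13300 rfl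
  have h := zero_lt_add (a := (nat_lit 13680)) (n := (nat_lit 380)) (b := (nat_lit 14060)) h cb13680 rfl
  have h := zero_lt_add (a := (nat_lit 14060)) (n := (nat_lit 20)) (b := (nat_lit 14080)) h cb14060 rfl
  exact h
theorem lok : LoK (Cfsg.Spor.Fi22) 2 := lok_mono P22.top ub22 P22.cx.inv rl22 (M := 28159) (N := 14080) rfl (by decide +kernel) h1 h2
  (u := [nat_lit 8, nat_lit 0, nat_lit 1, nat_lit 2, nat_lit 4, nat_lit 2, nat_lit 1, nat_lit 0, nat_lit 8, nat_lit 3, nat_lit 2, nat_lit 4, nat_lit 2, nat_lit 3, nat_lit 7, nat_lit 1, nat_lit 2, nat_lit 4, nat_lit 2, nat_lit 1, nat_lit 2, nat_lit 5, nat_lit 0, nat_lit 1, nat_lit 2, nat_lit 3, nat_lit 2, nat_lit 1, nat_lit 0, nat_lit 5, nat_lit 3, nat_lit 2, nat_lit 4, nat_lit 2, nat_lit 3, nat_lit 6, nat_lit 5, nat_lit 8, nat_lit 0, nat_lit 1, nat_lit 2, nat_lit 3, nat_lit 2, nat_lit 1, nat_lit 0, nat_lit 5, nat_lit 8, nat_lit 6, nat_lit 0, nat_lit 1, nat_lit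 2, nat_lit 4, nat_lit 3, nat_lit 2, nat_lit 1, nat_lit 0, nat_lit 1, nat_lit 2, nat_lit 4, nat_lit 5, nat_lit 3, nat_lit 8, nat_lit 6, nat_lit 7, nat_lit 4, nat_lit 2, nat_lit 1, nat_lit 5, nat_lit 3, nat_lit 2, nat_lit 4, nat_lit 2, nat_lit 3, nat_lit 5, nat_lit 7, nat_lit 3, nat_lit 2, nat_lit 4, nat_lit 2, nat_lit 3, nat_lit 0, nat_lit 1, nat_lit 2, nat_lit 4, nat_lit 2, nat_lit 1, nat_lit 0, nat_lit 7, nat_lit 5, nat_lit 3, nat_lit 2, nat_lit 4, nat_lit 2, nat_lit 3, nat_lit 5, nat_lit 1, nat_lit 2, nat_lit 4, nat_lit 2, nat_lit 1, nat_lit 8, nat_lit 6, nat_lit 0, nat_lit 1, nat_lit 2, nat_lit 3, nat_lit 2, nat_lit 1, nat_lit 5, nat_lit 2, nat_lit 8, nat_lit 0, nat_lit 1, nat_lit 2, nat_lit 3, nat_lit 2, nat_lit 1, nat_lit 8, nat_lit 0, nat_lit 5, nat_lit 6, nat_lit 3, nat_lit 2, nat_lit 4, nat_lit 2, nat_lit 3, nat_lit 7, nat_lit 1, nat_lit 2, nat_lit 4, nat_lit 7, nat_lit 5, nat_lit 3, nat_lit 2,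 nat_lit 1, nat_lit 0, nat_lit 1, nat_lit 2, nat_lit 4, nat_lit 2, nat_lit 1, nat_lit 0, nat_lit 8, nat_lit 2, nat_lit 0, nat_lit 1, nat_lit 0, nat_lit 8, nat_lit 3, nat_lit 4, nat_lit 2, nat_lit 1, nat_lit 0, nat_lit 7, nat_lit 4, nat_lit 8, nat_lit 2, nat_lit 3, nat_lit 1, nat_lit 5, nat_lit 3, nat_lit 6, nat_lit 7, nat_lit 0, nat_lit 4]) (v := [nat_lit 6, nat_lit 5, nat_lit 6, nat_lit 0, nat_lit 1, nat_lit 2, nat_lit 4, nat_lit 2, nat_lit 1, nat_lit 0, nat_lit 7, nat_lit 5, nat_lit 3, nat_lit 2, nat_lit 4, nat_lit 2, nat_lit 3, nat_lit 5, nat_lit 6, nat_lit 1, nat_lit 2, nat_lit 3, nat_lit 2, nat_lit 1, nat_lit 0, nat_lit 8, nat_lit 1, nat_lit 2, nat_lit 4, nat_lit 2, nat_lit 1, nat_lit 0, nat_lit 2, nat_lit 5, nat_lit 1, nat_lit 2, nat_lit 3, nat_lit 2, nat_lit 1, nat_lit 7, nat_lit 8, nat_lit 0, nat_lit 1, nat_lit 2, nat_lit 4, nat_lit 2, nat_lit 1, nat_lit 0, nat_lit 8, nat_lit 3, nat_lit 2, nat_lit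 4, nat_lit 2, nat_lit 3, nat_lit 5, nat_lit 6, nat_lit 7, nat_lit 5, nat_lit 3, nat_lit 2, nat_lit 4, nat_lit 2, nat_lit 3, nat_lit 7, nat_lit 0, nat_lit 1, nat_lit 2, nat_lit 4, nat_lit 2, nat_lit 1, nat_lit 0, nat_lit 1, nat_lit 2, nat_lit 3, nat_lit 2, nat_lit 1, nat_lit 0, nat_lit 8, nat_lit 1, nat_lit 2, nat_lit 4, nat_lit 2, nat_lit 7, nat_lit 0, nat_lit 8, nat_lit 3, nat_lit 4, nat_lit 2, nat_lit 1, nat_lit 0, nat_lit 7, nat_lit 4, nat_lit 2, nat_lit 1, nat_lit 5, nat_lit 3, nat_lit 2, nat_lit 4, nat_lit 6, nat_lit 5, nat_lit 3, nat_lit 2, nat_lit 1, nat_lit 2, nat_lit 0, nat_lit 1, nat_lit 3, nat_lit 2, nat_lit 4, nat_lit 2, nat_lit 3, nat_lit 7, nat_lit 4, nat_lit 2, nat_lit 1, nat_lit 8, nat_lit 0]) (by decide +kernel) (eq22 (by decide +kernel))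

end Cfsg.Agent.Ct.Fi22s.C2
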