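import Cfsg.Agent.Lib.Cert.Fi22s.C3D

set_option autoImplicit false
set_option maxRecDepth 100000

namespace Cfsg.Agent.Ct.Fi22s.C3

open Cfsg.Agent.PC

theorem ca83330 : Nat.beq (rng f1 (nat_lit 83330) (nat_lit 8333)) (nat_lit 0) = true := by decide +kernel
theorem ca91663 : Nat.beq (rng f1 (nat_lit 91663) (nat_lit 8333)) (nat_lit 0) = true := by decide +kernel
theorem ca99996 : Nat.beq (rng f1 (nat_lit 99996) (nat_lit 8333)) (nat_lit 0) = true := by decide +kernel
theorem ca108329 : Nat.beq (rng f1 (nat_lit 108329) (nat_lit 8333)) (nat_lit 0) = true := by decide +kernel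
theorem ca116662 : Nat.beq (rng f1 (nat_lit 116662) (nat_lit 8333)) (nat_lit 0) = true := by decide +kernel
theorem ca124995 : Nat.beq (rng f1 (nat_lit 124995) (nat_lit 8333)) (nat_lit 0) = true := by decide +kernel
theorem ca133328 : Nat.beq (rng f1 (nat_lit 133328) (nat_lit 8333)) (nat_lit 0) = true := by decide +kernel
theorem ca141661 : Nat.beq (rng f1 (nat_lit 141661) (nat_lit 8333)) (nat_lit 0) = true := by decide +kernel
theorem ca149994 : Nat.beq (rng f1 (nat_lit 149994) (nat_lit 8333)) (nat_lit 0) = true := by decide +kernel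
theorem ca158327 : Nat.beq (rng f1 (nat_lit 158327) (nat_lit 8333)) (nat_lit 0) = true := by decide +kernel

end Cfsg.Agent.Ct.Fi22s.C3
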