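import Cfsg.Agent.Lib.Cert.Fi22s.C3D

set_option autoImplicit false
set_option maxRecDepth 100000

namespace Cfsg.Agent.Ct.Fi22s.C3

open Cfsg.Agent.PC

theorem cb29260 : Nat.beq (rng f2 (nat_lit 29260) (nat_lit 380)) (nat_lit 0) = true := by decide +kernel
theorem cb29640 : Nat.beq (rng f2 (nat_lit 29640) (nat_lit 380)) (nat_lit 0) = true := by decide +kernel
theorem cb30020 : Nat.beq (rng f2 (nat_lit 30020) (nat_lit 380)) (nat_lit 0) = true := by decide +kernel
theorem cb30400 : Nat.beq (rng f2 (nat_lit 30400) (nat_lit 380)) (nat_lit 0) = true := by decide +kernel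
theorem cb30780 : Nat.beq (rng f2 (nat_lit 30780) (nat_lit 380)) (nat_lit 0) = true := by decide +kernel
theorem cb31160 : Nat.beq (rng f2 (nat_lit 31160) (nat_lit 380)) (nat_lit 0) = true := by decide +kernel
theorem cb31540 : Nat.beq (rng f2 (nat_lit 31540) (nat_lit 380)) (nat_lit 0) = true := by decide +kernel
theorem cb31920 : Nat.beq (rng f2 (nat_lit 31920) (nat_lit 380)) (nat_lit 0) = true := by decide +kernel
theorem cb32300 : Nat.beq (rng f2 (nat_lit 32300) (nat_lit 380)) (nat_lit 0) = true := by decide +kernel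
theorem cb32680 : Nat.beq (rng f2 (nat_lit 32680) (nat_lit 380)) (nat_lit 0) = true := by decide +kernel

end Cfsg.Agent.Ct.Fi22s.C3
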