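import Cfsg.Agent.Lib.Cert.Fi22s.C3D

set_option autoImplicit false
set_option maxRecDepth 100000

namespace Cfsg.Agent.Ct.Fi22s.C3

open Cfsg.Agent.PC

theorem cb33060 : Nat.beq (rng f2 (nat_lit 33060) (nat_lit 380)) (nat_lit 0) = true := by decide +kernel
theorem cb33440 : Nat.beq (rng f2 (nat_lit 33440) (nat_lit 380)) (nat_lit 0) = true := by decide +kernel
theorem cb33820 : Nat.beq (rng f2 (nat_lit 33820) (nat_lit 380)) (nat_lit 0) = true := by decide +kernel
theorem cb34200 : Nat.beq (rng f2 (nat_lit 34200) (nat_lit 380)) (nat_lit 0) = true := by decide +kernel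
theorem cb34580 : Nat.beq (rng f2 (nat_lit 34580) (nat_lit 380)) (nat_lit 0) = true := by decide +kernel
theorem cb34960 : Nat.beq (rng f2 (nat_lit 34960) (nat_lit 380)) (nat_lit 0) = true := by decide +kernel
theorem cb35340 : Nat.beq (rng f2 (nat_lit 35340) (nat_lit 380)) (nat_lit 0) = true := by decide +kernel
theorem cb35720 : Nat.beq (rng f2 (nat_lit 35720) (nat_lit 380)) (nat_lit 0) = true := by decide +kernel
theorem cb36100 : Nat.beq (rng f2 (nat_lit 36100) (nat_lit 380)) (nat_lit 0) = true := by decide +kernel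
theorem cb36480 : Nat.beq (rng f2 (nat_lit 36480) (nat_lit 380)) (nat_lit 0) = true := by decide +kernel

end Cfsg.Agent.Ct.Fi22s.C3
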