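import Cfsg.Agent.Lib.Cert.Fi22s.C3D

set_option autoImplicit false
set_option maxRecDepth 100000

namespace Cfsg.Agent.Ct.Fi22s.C3

open Cfsg.Agent.PC

theorem cb40660 : Nat.beq (rng f2 (nat_lit 40660) (nat_lit 380)) (nat_lit 0) = true := by decide +kernel
theorem cb41040 : Nat.beq (rng f2 (nat_lit 41040) (nat_lit 380)) (nat_lit 0) = true := by decide +kernel
theorem cb41420 : Nat.beq (rng f2 (nat_lit 41420) (nat_lit 380)) (nat_lit 0) = true := by decide +kernel
theorem cb41800 : Nat.beq (rng f2 (nat_lit 41800) (nat_lit 380)) (nat_lit 0) = true := by decide +kernel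
theorem cb42180 : Nat.beq (rng f2 (nat_lit 42180) (nat_lit 380)) (nat_lit 0) = true := by decide +kernel
theorem cb42560 : Nat.beq (rng f2 (nat_lit 42560) (nat_lit 380)) (nat_lit 0) = true := by decide +kernel
theorem cb42940 : Nat.beq (rng f2 (nat_lit 42940) (nat_lit 380)) (nat_lit 0) = true := by decide +kernel
theorem cb43320 : Nat.beq (rng f2 (nat_lit 43320) (nat_lit 380)) (nat_lit 0) = true := by decide +kernel
theorem cb43700 : Nat.beq (rng f2 (nat_lit 43700) (nat_lit 380)) (nat_lit 0) = true := by decide +kernel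
theorem cb44080 : Nat.beq (rng f2 (nat_lit 44080) (nat_lit 380)) (nat_lit 0) = true := by decide +kernel

end Cfsg.Agent.Ct.Fi22s.C3
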