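import Cfsg.Agent.Lib.Cert.Fi22s.C3D

set_option autoImplicit false
set_option maxRecDepth 100000

namespace Cfsg.Agent.Ct.Fi22s.C3

open Cfsg.Agent.PC

theorem cb44460 : Nat.beq (rng f2 (nat_lit 44460) (nat_lit 380)) (nat_lit 0) = true := by decide +kernel
theorem cb44840 : Nat.beq (rng f2 (nat_lit 44840) (nat_lit 380)) (nat_lit 0) = true := by decide +kernel
theorem cb45220 : Nat.beq (rng f2 (nat_lit 45220) (nat_lit 380)) (nat_lit 0) = true := by decide +kernel
theorem cb45600 : Nat.beq (rng f2 (nat_lit 45600) (nat_lit 380)) (nat_lit 0) = true := by decide +kernel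
theorem cb45980 : Nat.beq (rng f2 (nat_lit 45980) (nat_lit 380)) (nat_lit 0) = true := by decide +kernel
theorem cb46360 : Nat.beq (rng f2 (nat_lit 46360) (nat_lit 380)) (nat_lit 0) = true := by decide +kernel
theorem cb46740 : Nat.beq (rng f2 (nat_lit 46740) (nat_lit 380)) (nat_lit 0) = true := by decide +kernel
theorem cb47120 : Nat.beq (rng f2 (nat_lit 47120) (nat_lit 380)) (nat_lit 0) = true := by decide +kernel
theorem cb47500 : Nat.beq (rng f2 (nat_lit 47500) (nat_lit 380)) (nat_lit 0) = true := by decide +kernel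
theorem cb47880 : Nat.beq (rng f2 (nat_lit 47880) (nat_lit 380)) (nat_lit 0) = true := by decide +kernel

end Cfsg.Agent.Ct.Fi22s.C3
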