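import Cfsg.Agent.Lib.Cert.Fi22s.C3D

set_option autoImplicit false
set_option maxRecDepth 100000

namespace Cfsg.Agent.Ct.Fi22s.C3

open Cfsg.Agent.PC

theorem cb48260 : Nat.beq (rng f2 (nat_lit 48260) (nat_lit 380)) (nat_lit 0) = true := by decide +kernel
theorem cb48640 : Nat.beq (rng f2 (nat_lit 48640) (nat_lit 380)) (nat_lit 0) = true := by decide +kernel
theorem cb49020 : Nat.beq (rng f2 (nat_lit 49020) (nat_lit 380)) (nat_lit 0) = true := by decide +kernel
theorem cb49400 : Nat.beq (rng f2 (nat_lit 49400) (nat_lit 380)) (nat_lit 0) = true := by decide +kernel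
theorem cb49780 : Nat.beq (rng f2 (nat_lit 49780) (nat_lit 380)) (nat_lit 0) = true := by decide +kernel
theorem cb50160 : Nat.beq (rng f2 (nat_lit 50160) (nat_lit 380)) (nat_lit 0) = true := by decide +kernel
theorem cb50540 : Nat.beq (rng f2 (nat_lit 50540) (nat_lit 380)) (nat_lit 0) = true := by decide +kernel
theorem cb50920 : Nat.beq (rng f2 (nat_lit 50920) (nat_lit 380)) (nat_lit 0) = true := by decide +kernel
theorem cb51300 : Nat.beq (rng f2 (nat_lit 51300) (nat_lit 380)) (nat_lit 0) = true := by decide +kernel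
theorem cb51680 : Nat.beq (rng f2 (nat_lit 51680) (nat_lit 380)) (nat_lit 0) = true := by decide +kernel

end Cfsg.Agent.Ct.Fi22s.C3
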