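import Cfsg.Agent.Lib.Cert.Fi22s.C3D

set_option autoImplicit false
set_option maxRecDepth 100000

namespace Cfsg.Agent.Ct.Fi22s.C3

open Cfsg.Agent.PC

theorem cb52060 : Nat.beq (rng f2 (nat_lit 52060) (nat_lit 380)) (nat_lit 0) = true := by decide +kernel
theorem cb52440 : Nat.beq (rng f2 (nat_lit 52440) (nat_lit 380)) (nat_lit 0) = true := by decide +kernel
theorem cb52820 : Nat.beq (rng f2 (nat_lit 52820) (nat_lit 380)) (nat_lit 0) = true := by decide +kernel
theorem cb53200 : Nat.beq (rng f2 (nat_lit 53200) (nat_lit 380)) (nat_lit 0) = true := by decide +kernel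
theorem cb53580 : Nat.beq (rng f2 (nat_lit 53580) (nat_lit 380)) (nat_lit 0) = true := by decide +kernel
theorem cb53960 : Nat.beq (rng f2 (nat_lit 53960) (nat_lit 380)) (nat_lit 0) = true := by decide +kernel
theorem cb54340 : Nat.beq (rng f2 (nat_lit 54340) (nat_lit 380)) (nat_lit 0) = true := by decide +kernel
theorem cb54720 : Nat.beq (rng f2 (nat_lit 54720) (nat_lit 380)) (nat_lit 0) = true := by decide +kernel
theorem cb55100 : Nat.beq (rng f2 (nat_lit 55100) (nat_lit 380)) (nat_lit 0) = true := by decide +kernel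
theorem cb55480 : Nat.beq (rng f2 (nat_lit 55480) (nat_lit 380)) (nat_lit 0) = true := by decide +kernel

end Cfsg.Agent.Ct.Fi22s.C3
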