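import Cfsg.Agent.Lib.Cert.Fi22s.C3D

set_option autoImplicit false
set_option maxRecDepth 100000

namespace Cfsg.Agent.Ct.Fi22s.C3

open Cfsg.Agent.PC

theorem cb55860 : Nat.beq (rng f2 (nat_lit 55860) (nat_lit 380)) (nat_lit 0) = true := by decide +kernel
theorem cb56240 : Nat.beq (rng f2 (nat_lit 56240) (nat_lit 380)) (nat_lit 0) = true := by decide +kernel
theorem cb56620 : Nat.beq (rng f2 (nat_lit 56620) (nat_lit 380)) (nat_lit 0) = true := by decide +kernel
theorem cb57000 : Nat.beq (rng f2 (nat_lit 57000) (nat_lit 380)) (nat_lit 0) = true := by decide +kernel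
theorem cb57380 : Nat.beq (rng f2 (nat_lit 57380) (nat_lit 380)) (nat_lit 0) = true := by decide +kernel
theorem cb57760 : Nat.beq (rng f2 (nat_lit 57760) (nat_lit 380)) (nat_lit 0) = true := by decide +kernel
theorem cb58140 : Nat.beq (rng f2 (nat_lit 58140) (nat_lit 380)) (nat_lit 0) = true := by decide +kernel
theorem cb58520 : Nat.beq (rng f2 (nat_lit 58520) (nat_lit 380)) (nat_lit 0) = true := by decide +kernel
theorem cb58900 : Nat.beq (rng f2 (nat_lit 58900) (nat_lit 380)) (nat_lit 0) = true := by decide +kernel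
theorem cb59280 : Nat.beq (rng f2 (nat_lit 59280) (nat_lit 380)) (nat_lit 0) = true := by decide +kernel

end Cfsg.Agent.Ct.Fi22s.C3
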