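import Cfsg.Agent.Lib.Cert.Fi22s.C3D

set_option autoImplicit false
set_option maxRecDepth 100000

namespace Cfsg.Agent.Ct.Fi22s.C3

open Cfsg.Agent.PC

theorem cb59660 : Nat.beq (rng f2 (nat_lit 59660) (nat_lit 380)) (nat_lit 0) = true := by decide +kernel
theorem cb60040 : Nat.beq (rng f2 (nat_lit 60040) (nat_lit 380)) (nat_lit 0) = true := by decide +kernel
theorem cb60420 : Nat.beq (rng f2 (nat_lit 60420) (nat_lit 380)) (nat_lit 0) = true := by decide +kernel
theorem cb60800 : Nat.beq (rng f2 (nat_lit 60800) (nat_lit 380)) (nat_lit 0) = true := by decide +kernel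
theorem cb61180 : Nat.beq (rng f2 (nat_lit 61180) (nat_lit 380)) (nat_lit 0) = true := by decide +kernel
theorem cb61560 : Nat.beq (rng f2 (nat_lit 61560) (nat_lit 216)) (nat_lit 0) = true := by decide +kernel

end Cfsg.Agent.Ct.Fi22s.C3
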