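import Cfsg.Agent.Lib.Cert.Fi22s.C3D

set_option autoImplicit false
set_option maxRecDepth 100000

namespace Cfsg.Agent.Ct.Fi22s.C3

open Cfsg.Agent.PC

theorem ca166660 : Nat.beq (rng f1 (nat_lit 166660) (nat_lit 8333)) (nat_lit 0) = true := by decide +kernel
theorem ca174993 : Nat.beq (rng f1 (nat_lit 174993) (nat_lit 8333)) (nat_lit 0) = true := by decide +kernel
theorem ca183326 : Nat.beq (rng f1 (nat_lit 183326) (nat_lit 2002)) (nat_lit 0) = true := by decide +kernel
theorem cb0 : Nat.beq (rng f2 (nat_lit 0) (nat_lit 380)) (nat_lit 0) = true := by decide +kernel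
theorem cb380 : Nat.beq (rng f2 (nat_lit 380) (nat_lit 380)) (nat_lit 0) = true := by decide +kernel
theorem cb760 : Nat.beq (rng f2 (nat_lit 760) (nat_lit 380)) (nat_lit 0) = true := by decide +kernel
theorem cb1140 : Nat.beq (rng f2 (nat_lit 1140) (nat_lit 380)) (nat_lit 0) = true := by decide +kernel
theorem cb1520 : Nat.beq (rng f2 (nat_lit 1520) (nat_lit 380)) (nat_lit 0) = true := by decide +kernel
theorem cb1900 : Nat.beq (rng f2 (nat_lit 1900) (nat_lit 380)) (nat_lit 0) = true := by decide +kernel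
theorem cb2280 : Nat.beq (rng f2 (nat_lit 2280) (nat_lit 380)) (nat_lit 0) = true := by decide +kernel

end Cfsg.Agent.Ct.Fi22s.C3
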