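import Cfsg.Agent.Lib.Cert.Fi22s.C3D

set_option autoImplicit false
set_option maxRecDepth 100000

namespace Cfsg.Agent.Ct.Fi22s.C3

open Cfsg.Agent.PC

theorem cb6460 : Nat.beq (rng f2 (nat_lit 6460) (nat_lit 380)) (nat_lit 0) = true := by decide +kernel
theorem cb6840 : Nat.beq (rng f2 (nat_lit 6840) (nat_lit 380)) (nat_lit 0) = true := by decide +kernel
theorem cb7220 : Nat.beq (rng f2 (nat_lit 7220) (nat_lit 380)) (nat_lit 0) = true := by decide +kernel
theorem cb7600 : Nat.beq (rng f2 (nat_lit 7600) (nat_lit 380)) (nat_lit 0) = true := by decide +kernel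
theorem cb7980 : Nat.beq (rng f2 (nat_lit 7980) (nat_lit 380)) (nat_lit 0) = true := by decide +kernel
theorem cb8360 : Nat.beq (rng f2 (nat_lit 8360) (nat_lit 380)) (nat_lit 0) = true := by decide +kernel
theorem cb8740 : Nat.beq (rng f2 (nat_lit 8740) (nat_lit 380)) (nat_lit 0) = true := by decide +kernel
theorem cb9120 : Nat.beq (rng f2 (nat_lit 9120) (nat_lit 380)) (nat_lit 0) = true := by decide +kernel
theorem cb9500 : Nat.beq (rng f2 (nat_lit 9500) (nat_lit 380)) (nat_lit 0) = true := by decide +kernel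
theorem cb9880 : Nat.beq (rng f2 (nat_lit 9880) (nat_lit 380)) (nat_lit 0) = true := by decide +kernel

end Cfsg.Agent.Ct.Fi22s.C3
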