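import Cfsg.Agent.Lib.Cert.Fi22s.C3D

set_option autoImplicit false
set_option maxRecDepth 100000

namespace Cfsg.Agent.Ct.Fi22s.C3

open Cfsg.Agent.PC

theorem cb10260 : Nat.beq (rng f2 (nat_lit 10260) (nat_lit 380)) (nat_lit 0) = true := by decide +kernel
theorem cb10640 : Nat.beq (rng f2 (nat_lit 10640) (nat_lit 380)) (nat_lit 0) = true := by decide +kernel
theorem cb11020 : Nat.beq (rng f2 (nat_lit 11020) (nat_lit 380)) (nat_lit 0) = true := by decide +kernel
theorem cb11400 : Nat.beq (rng f2 (nat_lit 11400) (nat_lit 380)) (nat_lit 0) = true := by decide +kernel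
theorem cb11780 : Nat.beq (rng f2 (nat_lit 11780) (nat_lit 380)) (nat_lit 0) = true := by decide +kernel
theorem cb12160 : Nat.beq (rng f2 (nat_lit 12160) (nat_lit 380)) (nat_lit 0) = true := by decide +kernel
theorem cb12540 : Nat.beq (rng f2 (nat_lit 12540) (nat_lit 380)) (nat_lit 0) = true := by decide +kernel
theorem cb12920 : Nat.beq (rng f2 (nat_lit 12920) (nat_lit 380)) (nat_lit 0) = true := by decide +kernel
theorem cb13300 : Nat.beq (rng f2 (nat_lit 13300) (nat_lit 380)) (nat_lit 0) = true := by decide +kernel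
theorem cb13680 : Nat.beq (rng f2 (nat_lit 13680) (nat_lit 380)) (nat_lit 0) = true := by decide +kernel

end Cfsg.Agent.Ct.Fi22s.C3
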