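import Cfsg.Agent.Lib.Cert.Fi22s.C3D

set_option autoImplicit false
set_option maxRecDepth 100000

namespace Cfsg.Agent.Ct.Fi22s.C3

open Cfsg.Agent.PC

theorem cb14060 : Nat.beq (rng f2 (nat_lit 14060) (nat_lit 380)) (nat_lit 0) = true := by decide +kernel
theorem cb14440 : Nat.beq (rng f2 (nat_lit 14440) (nat_lit 380)) (nat_lit 0) = true := by decide +kernel
theorem cb14820 : Nat.beq (rng f2 (nat_lit 14820) (nat_lit 380)) (nat_lit 0) = true := by decide +kernel
theorem cb15200 : Nat.beq (rng f2 (nat_lit 15200) (nat_lit 380)) (nat_lit 0) = true := by decide +kernel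
theorem cb15580 : Nat.beq (rng f2 (nat_lit 15580) (nat_lit 380)) (nat_lit 0) = true := by decide +kernel
theorem cb15960 : Nat.beq (rng f2 (nat_lit 15960) (nat_lit 380)) (nat_lit 0) = true := by decide +kernel
theorem cb16340 : Nat.beq (rng f2 (nat_lit 16340) (nat_lit 380)) (nat_lit 0) = true := by decide +kernel
theorem cb16720 : Nat.beq (rng f2 (nat_lit 16720) (nat_lit 380)) (nat_lit 0) = true := by decide +kernel
theorem cb17100 : Nat.beq (rng f2 (nat_lit 17100) (nat_lit 380)) (nat_lit 0) = true := by decide +kernel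
theorem cb17480 : Nat.beq (rng f2 (nat_lit 17480) (nat_lit 380)) (nat_lit 0) = true := by decide +kernel

end Cfsg.Agent.Ct.Fi22s.C3
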