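import Cfsg.Agent.Lib.Cert.Fi22s.C3D

set_option autoImplicit false
set_option maxRecDepth 100000

namespace Cfsg.Agent.Ct.Fi22s.C3

open Cfsg.Agent.PC

theorem cb17860 : Nat.beq (rng f2 (nat_lit 17860) (nat_lit 380)) (nat_lit 0) = true := by decide +kernel
theorem cb18240 : Nat.beq (rng f2 (nat_lit 18240) (nat_lit 380)) (nat_lit 0) = true := by decide +kernel
theorem cb18620 : Nat.beq (rng f2 (nat_lit 18620) (nat_lit 380)) (nat_lit 0) = true := by decide +kernel
theorem cb19000 : Nat.beq (rng f2 (nat_lit 19000) (nat_lit 380)) (nat_lit 0) = true := by decide +kernel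
theorem cb19380 : Nat.beq (rng f2 (nat_lit 19380) (nat_lit 380)) (nat_lit 0) = true := by decide +kernel
theorem cb19760 : Nat.beq (rng f2 (nat_lit 19760) (nat_lit 380)) (nat_lit 0) = true := by decide +kernel
theorem cb20140 : Nat.beq (rng f2 (nat_lit 20140) (nat_lit 380)) (nat_lit 0) = true := by decide +kernel
theorem cb20520 : Nat.beq (rng f2 (nat_lit 20520) (nat_lit 380)) (nat_lit 0) = true := by decide +kernel
theorem cb20900 : Nat.beq (rng f2 (nat_lit 20900) (nat_lit 380)) (nat_lit 0) = true := by decide +kernel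
theorem cb21280 : Nat.beq (rng f2 (nat_lit 21280) (nat_lit 380)) (nat_lit 0) = true := by decide +kernel

end Cfsg.Agent.Ct.Fi22s.C3
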