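import Cfsg.Agent.Lib.Cert.Fi22s.C3D

set_option autoImplicit false
set_option maxRecDepth 100000

namespace Cfsg.Agent.Ct.Fi22s.C3

open Cfsg.Agent.PC

theorem cb21660 : Nat.beq (rng f2 (nat_lit 21660) (nat_lit 380)) (nat_lit 0) = true := by decide +kernel
theorem cb22040 : Nat.beq (rng f2 (nat_lit 22040) (nat_lit 380)) (nat_lit 0) = true := by decide +kernel
theorem cb22420 : Nat.beq (rng f2 (nat_lit 22420) (nat_lit 380)) (nat_lit 0) = true := by decide +kernel
theorem cb22800 : Nat.beq (rng f2 (nat_lit 22800) (nat_lit 380)) (nat_lit 0) = true := by decide +kernel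
theorem cb23180 : Nat.beq (rng f2 (nat_lit 23180) (nat_lit 380)) (nat_lit 0) = true := by decide +kernel
theorem cb23560 : Nat.beq (rng f2 (nat_lit 23560) (nat_lit 380)) (nat_lit 0) = true := by decide +kernel
theorem cb23940 : Nat.beq (rng f2 (nat_lit 23940) (nat_lit 380)) (nat_lit 0) = true := by decide +kernel
theorem cb24320 : Nat.beq (rng f2 (nat_lit 24320) (nat_lit 380)) (nat_lit 0) = true := by decide +kernel
theorem cb24700 : Nat.beq (rng f2 (nat_lit 24700) (nat_lit 380)) (nat_lit 0) = true := by decide +kernel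
theorem cb25080 : Nat.beq (rng f2 (nat_lit 25080) (nat_lit 380)) (nat_lit 0) = true := by decide +kernel

end Cfsg.Agent.Ct.Fi22s.C3
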