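import Cfsg.Agent.Lib.Cert.Fi22s.C3D

set_option autoImplicit false
set_option maxRecDepth 100000

namespace Cfsg.Agent.Ct.Fi22s.C3

open Cfsg.Agent.PC

theorem cb25460 : Nat.beq (rng f2 (nat_lit 25460) (nat_lit 380)) (nat_lit 0) = true := by decide +kernel
theorem cb25840 : Nat.beq (rng f2 (nat_lit 25840) (nat_lit 380)) (nat_lit 0) = true := by decide +kernel
theorem cb26220 : Nat.beq (rng f2 (nat_lit 26220) (nat_lit 380)) (nat_lit 0) = true := by decide +kernel
theorem cb26600 : Nat.beq (rng f2 (nat_lit 26600) (nat_lit 380)) (nat_lit 0) = true := by decide +kernel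
theorem cb26980 : Nat.beq (rng f2 (nat_lit 26980) (nat_lit 380)) (nat_lit 0) = true := by decide +kernel
theorem cb27360 : Nat.beq (rng f2 (nat_lit 27360) (nat_lit 380)) (nat_lit 0) = true := by decide +kernel
theorem cb27740 : Nat.beq (rng f2 (nat_lit 27740) (nat_lit 380)) (nat_lit 0) = true := by decide +kernel
theorem cb28120 : Nat.beq (rng f2 (nat_lit 28120) (nat_lit 380)) (nat_lit 0) = true := by decide +kernel
theorem cb28500 : Nat.beq (rng f2 (nat_lit 28500) (nat_lit 380)) (nat_lit 0) = true := by decide +kernel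
theorem cb28880 : Nat.beq (rng f2 (nat_lit 28880) (nat_lit 380)) (nat_lit 0) = true := by decide +kernel

end Cfsg.Agent.Ct.Fi22s.C3
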