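import Cfsg.Agent.Lib.Cert.Fi22s.C3R0
import Cfsg.Agent.Lib.Cert.Fi22s.C3R1
import Cfsg.Agent.Lib.Cert.Fi22s.C3R2
import Cfsg.Agent.Lib.Cert.Fi22s.C3R3
import Cfsg.Agent.Lib.Cert.Fi22s.C3R4
import Cfsg.Agent.Lib.Cert.Fi22s.C3R5
import Cfsg.Agent.Lib.Cert.Fi22s.C3R6
import Cfsg.Agent.Lib.Cert.Fi22s.C3R7
import Cfsg.Agent.Lib.Cert.Fi22s.C3R8
import Cfsg.Agent.Lib.Cert.Fi22s.C3R9
import Cfsg.Agent.Lib.Cert.Fi22s.C3R10
import Cfsg.Agent.Lib.Cert.Fi22s.C3R11
import Cfsg.Agent.Lib.Cert.Fi22s.C3R12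
import Cfsg.Agent.Lib.Cert.Fi22s.C3R13
import Cfsg.Agent.Lib.Cert.Fi22s.C3R14
import Cfsg.Agent.Lib.Cert.Fi22s.C3R15
import Cfsg.Agent.Lib.Cert.Fi22s.C3R16
import Cfsg.Agent.Lib.Cert.Fi22s.C3R17
import Cfsg.Agent.Lib.Cert.Fi22s.C3R18

set_option autoImplicit false
set_option maxRecDepth 100000

namespace Cfsg.Agent.Ct.Fi22s.C3

open Cfsg.Agent.PC

open Cfsg.Agent.Fi Cfsg.Agent.Ct
theorem h1 : ∀ i < 185328, f1 i = 0 := by
  have h := zero_lt_zero f1
  have h := zero_lt_add (a := (nat_lit 0)) (n := (nat_lit 8333)) (b := (nat_lit 8333)) h ca0 rfl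
  have h := zero_lt_add (a := (nat_lit 8333)) (n := (nat_lit 8333)) (b := (nat_lit 16666)) h ca8333 rfl
  have h := zero_lt_add (a := (nat_lit 16666)) (n := (nat_lit 8333)) (b := (nat_lit 24999)) h ca16666 rfl
  have h := zero_lt_add (a := (nat_lit 24999)) (n := (nat_lit 8333)) (b := (nat_lit 33332)) h ca24999 rfl
  have h := zero_lt_add (a := (nat_lit 33332)) (n := (nat_lit 8333)) (b := (nat_lit 41665)) h ca33332 rfl
  have h := zero_lt_add (a := (nat_lit 41665)) (n := (nat_lit 8333)) (b := (nat_lit 49998)) h ca41665 rfl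
  have h := zero_lt_add (a := (nat_lit 49998)) (n := (nat_lit 8333)) (b := (nat_lit 58331)) h ca49998 rfl
  have h := zero_lt_add (a := (nat_lit 58331)) (n := (nat_lit 8333)) (b := (nat_lit 66664)) h ca58331 rfl
  have h := zero_lt_add (a := (nat_lit 66664)) (n := (nat_lit 8333)) (b := (nat_lit 74997)) h ca66664 rfl
  have h := zero_lt_add (a := (nat_lit 74997)) (n := (nat_lit 8333)) (b := (nat_lit 83330)) h ca74997 rfl
  have h := zero_lt_add (a := (nat_lit 83330)) (n := (nat_lit 8333)) (b := (nat_lit 91663)) h ca83330 rfl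
  have h := zero_lt_add (a := (nat_lit 91663)) (n := (nat_lit 8333)) (b := (nat_lit 99996)) h ca91663 rfl
  have h := zero_lt_add (a := (nat_lit 99996)) (n := (nat_lit 8333)) (b := (nat_lit 108329)) h ca99996 rfl
  have h := zero_lt_add (a := (nat_lit 108329)) (n := (nat_lit 8333)) (b := (nat_lit 116662)) h ca108329 rfl
  have h := zero_lt_add (a := (nat_lit 116662)) (n := (nat_lit 8333)) (b := (nat_lit 124995)) h ca116662 rfl
  have h := zero_lt_add (a := (nat_lit 124995)) (n := (nat_lit 8333)) (b := (nat_lit 133328)) h ca124995 rfl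
  have h := zero_lt_add (a := (nat_lit 133328)) (n := (nat_lit 8333)) (b := (nat_lit 141661)) h ca133328 rfl
  have h := zero_lt_add (a := (nat_lit 141661)) (n := (nat_lit 8333)) (b := (nat_lit 149994)) h ca141661 rfl
  have h := zero_lt_add (a := (nat_lit 149994)) (n := (nat_lit 8333)) (b := (nat_lit 158327)) h ca149994 rfl
  have h := zero_lt_add (a := (nat_lit 158327)) (n := (nat_lit 8333)) (b := (nat_lit 166660)) h ca158327 rfl
  have h := zero_lt_add (a := (nat_lit 166660)) (n := (nat_lit 8333)) (b := (nat_lit 174993)) h ca166660 rfl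
  have h := zero_lt_add (a := (nat_lit 174993)) (n := (nat_lit 8333)) (b := (nat_lit 183326)) h ca174993 rfl
  have h := zero_lt_add (a := (nat_lit 183326)) (n := (nat_lit 2002)) (b := (nat_lit 185328)) h ca183326 rfl
  exact h
theorem h2 : ∀ i < 61776, f2 i = 0 := by
  have h := zero_lt_zero f2
  have h := zero_lt_add (a := (nat_lit 0)) (n := (nat_lit 380)) (b := (nat_lit 380)) h cb0 rfl
  have h := zero_lt_add (a := (nat_lit 380)) (n := (nat_lit 380)) (b := (nat_lit 760)) h cb380 rfl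
  have h := zero_lt_add (a := (nat_lit 760)) (n := (nat_lit 380)) (b := (nat_lit 1140)) h cb760 rfl
  have h := zero_lt_add (a := (nat_lit 1140)) (n := (nat_lit 380)) (b := (nat_lit 1520)) h cb1140 rfl
  have h := zero_lt_add (a := (nat_lit 1520)) (n := (nat_lit 380)) (b := (nat_lit 1900)) h cb1520 rfl
  have h := zero_lt_add (a := (nat_lit 1900)) (n := (nat_lit 380)) (b := (nat_lit 2280)) h cb1900 rfl
  have h := zero_lt_add (a := (nat_lit 2280)) (n := (nat_lit 380)) (b := (nat_lit 2660)) h cb2280 rfl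
  have h := zero_lt_add (a := (nat_lit 2660)) (n := (nat_lit 380)) (b := (nat_lit 3040)) h cb2660 rfl
  have h := zero_lt_add (a := (nat_lit 3040)) (n := (nat_lit 380)) (b := (nat_lit 3420)) h cb3040 rfl
  have h := zero_lt_add (a := (nat_lit 3420)) (n := (nat_lit 380)) (b := (nat_lit 3800)) h cb3420 rfl
  have h := zero_lt_add (a := (nat_lit 3800)) (n := (nat_lit 380)) (b := (nat_lit 4180)) h cb3800 rfl
  have h := zero_lt_add (a := (nat_lit 4180)) (n := (nat_lit 380)) (b := (nat_lit 4560)) h cb4180 rfl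
  have h := zero_lt_add (a := (nat_lit 4560)) (n := (nat_lit 380)) (b := (nat_lit 4940)) h cb4560 rfl
  have h := zero_lt_add (a := (nat_lit 4940)) (n := (nat_lit 380)) (b := (nat_lit 5320)) h cb4940 rfl
  have h := zero_lt_add (a := (nat_lit 5320)) (n := (nat_lit 380)) (b := (nat_lit 5700)) h cb5320 rfl
  have h := zero_lt_add (a := (nat_lit 5700)) (n := (nat_lit 380)) (b := (nat_lit 6080)) h cb5700 rfl
  have h := zero_lt_add (a := (nat_lit 6080)) (n := (nat_lit 380)) (b := (nat_lit 6460)) h cb6080 rfl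
  have h := zero_lt_add (a := (nat_lit 6460)) (n := (nat_lit 380)) (b := (nat_lit 6840)) h cb6460 rfl
  have h := zero_lt_add (a := (nat_lit 6840)) (n := (nat_lit 380)) (b := (nat_lit 7220)) h cb6840 rfl
  have h := zero_lt_add (a := (nat_lit 7220)) (n := (nat_lit 380)) (b := (nat_lit 7600)) h cb7220 rfl
  have h := zero_lt_add (a := (nat_lit 7600)) (n := (nat_lit 380)) (b := (nat_lit 7980)) h cb7600 rfl
  have h := zero_lt_add (a := (nat_lit 7980)) (n := (nat_lit 380)) (b := (nat_lit 8360)) h cb7980 rfl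
  have h := zero_lt_add (a := (nat_lit 8360)) (n := (nat_lit 380)) (b := (nat_lit 8740)) h cb8360 rfl
  have h := zero_lt_add (a := (nat_lit 8740)) (n := (nat_lit 380)) (b := (nat_lit 9120)) h cb8740 rfl
  have h := zero_lt_add (a := (nat_lit 9120)) (n := (nat_lit 380)) (b := (nat_lit 9500)) h cb9120 rfl
  have h := zero_lt_add (a := (nat_lit 9500)) (n := (nat_lit 380)) (b := (nat_lit 9880)) h cb9500 rfl
  have h := zero_lt_add (a := (nat_lit 9880)) (n := (nat_lit 380)) (b := (nat_lit 10260)) h cb9880 rfl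
  have h := zero_lt_add (a := (nat_lit 10260)) (n := (nat_lit 380)) (b := (nat_lit 10640)) h cb10260 rfl
  have h := zero_lt_add (a := (nat_lit 10640)) (n := (nat_lit 380)) (b := (nat_lit 11020)) h cb10640 rfl
  have h := zero_lt_add (a := (nat_lit 11020)) (n := (nat_lit 380)) (b := (nat_lit 11400)) h cb11020 rfl
  have h := zero_lt_add (a := (nat_lit 11400)) (n := (nat_lit 380)) (b := (nat_lit 11780)) h cb11400 rfl
  have h := zero_lt_add (a := (nat_lit 11780)) (n := (nat_lit 380)) (b := (nat_lit 12160)) h cb11780 rfl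
  have h := zero_lt_add (a := (nat_lit 12160)) (n := (nat_lit 380)) (b := (nat_lit 12540)) h cb12160 rfl
  have h := zero_lt_add (a := (nat_lit 12540)) (n := (nat_lit 380)) (b := (nat_lit 12920)) h cb12540 rfl
  have h := zero_lt_add (a := (nat_lit 12920)) (n := (nat_lit 380)) (b := (nat_lit 13300)) h cb12920 rfl
  have h := zero_lt_add (a := (nat_lit 13300)) (n := (nat_lit 380)) (b := (nat_lit 13680)) h cb13300 rfl
  have h := zero_lt_add (a := (nat_lit 13680)) (n := (nat_lit 380)) (b := (nat_lit 14060)) h cb13680 rfl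
  have h := zero_lt_add (a := (nat_lit 14060)) (n := (nat_lit 380)) (b := (nat_lit 14440)) h cb14060 rfl
  have h := zero_lt_add (a := (nat_lit 14440)) (n := (nat_lit 380)) (b := (nat_lit 14820)) h cb14440 rfl
  have h := zero_lt_add (a := (nat_lit 14820)) (n := (nat_lit 380)) (b := (nat_lit 15200)) h cb14820 rfl
  have h := zero_lt_add (a := (nat_lit 15200)) (n := (nat_lit 380)) (b := (nat_lit 15580)) h cb15200 rfl
  have h := zero_lt_add (a := (nat_lit 15580)) (n := (nat_lit 380)) (b := (nat_lit 15960)) h cb15580 rfl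
  have h := zero_lt_add (a := (nat_lit 15960)) (n := (nat_lit 380)) (b := (nat_lit 16340)) h cb15960 rfl
  have h := zero_lt_add (a := (nat_lit 16340)) (n := (nat_lit 380)) (b := (nat_lit 16720)) h cb16340 rfl
  have h := zero_lt_add (a := (nat_lit 16720)) (n := (nat_lit 380)) (b := (nat_lit 17100)) h cb16720 rfl
  have h := zero_lt_add (a := (nat_lit 17100)) (n := (nat_lit 380)) (b := (nat_lit 17480)) h cb17100 rfl
  have h := zero_lt_add (a := (nat_lit 17480)) (n := (nat_lit 380)) (b := (nat_lit 17860)) h cb17480 rfl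
  have h := zero_lt_add (a := (nat_lit 17860)) (n := (nat_lit 380)) (b := (nat_lit 18240)) h cb17860 rfl
  have h := zero_lt_add (a := (nat_lit 18240)) (n := (nat_lit 380)) (b := (nat_lit 18620)) h cb18240 rfl
  have h := zero_lt_add (a := (nat_lit 18620)) (n := (nat_lit 380)) (b := (nat_lit 19000)) h cb18620 rfl
  have h := zero_lt_add (a := (nat_lit 19000)) (n := (nat_lit 380)) (b := (nat_lit 19380)) h cb19000 rfl
  have h := zero_lt_add (a := (nat_lit 19380)) (n := (nat_lit 380)) (b := (nat_lit 19760)) h cb19380 rfl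
  have h := zero_lt_add (a := (nat_lit 19760)) (n := (nat_lit 380)) (b := (nat_lit 20140)) h cb19760 rfl
  have h := zero_lt_add (a := (nat_lit 20140)) (n := (nat_lit 380)) (b := (nat_lit 20520)) h cb20140 rfl
  have h := zero_lt_add (a := (nat_lit 20520)) (n := (nat_lit 380)) (b := (nat_lit 20900)) h cb20520 rfl
  have h := zero_lt_add (a := (nat_lit 20900)) (n := (nat_lit 380)) (b := (nat_lit 21280)) h cb20900 rfl
  have h := zero_lt_add (a := (nat_lit 21280)) (n := (nat_lit 380)) (b := (nat_lit 21660)) h cb21280 rfl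
  have h := zero_lt_add (a := (nat_lit 21660)) (n := (nat_lit 380)) (b := (nat_lit 22040)) h cb21660 rfl
  have h := zero_lt_add (a := (nat_lit 22040)) (n := (nat_lit 380)) (b := (nat_lit 22420)) h cb22040 rfl
  have h := zero_lt_add (a := (nat_lit 22420)) (n := (nat_lit 380)) (b := (nat_lit 22800)) h cb22420 rfl
  have h := zero_lt_add (a := (nat_lit 22800)) (n := (nat_lit 380)) (b := (nat_lit 23180)) h cb22800 rfl
  have h := zero_lt_add (a := (nat_lit 23180)) (n := (nat_lit 380)) (b := (nat_lit 23560)) h cb23180 rfl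
  have h := zero_lt_add (a := (nat_lit 23560)) (n := (nat_lit 380)) (b := (nat_lit 23940)) h cb23560 rfl
  have h := zero_lt_add (a := (nat_lit 23940)) (n := (nat_lit 380)) (b := (nat_lit 24320)) h cb23940 rfl
  have h := zero_lt_add (a := (nat_lit 24320)) (n := (nat_lit 380)) (b := (nat_lit 24700)) h cb24320 rfl
  have h := zero_lt_add (a := (nat_lit 24700)) (n := (nat_lit 380)) (b := (nat_lit 25080)) h cb24700 rfl
  have h := zero_lt_add (a := (nat_lit 25080)) (n := (nat_lit 380)) (b := (nat_lit 25460)) h cb25080 rfl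
  have h := zero_lt_add (a := (nat_lit 25460)) (n := (nat_lit 380)) (b := (nat_lit 25840)) h cb25460 rfl
  have h := zero_lt_add (a := (nat_lit 25840)) (n := (nat_lit 380)) (b := (nat_lit 26220)) h cb25840 rfl
  have h := zero_lt_add (a := (nat_lit 26220)) (n := (nat_lit 380)) (b := (nat_lit 26600)) h cb26220 rfl
  have h := zero_lt_add (a := (nat_lit 26600)) (n := (nat_lit 380)) (b := (nat_lit 26980)) h cb26600 rfl
  have h := zero_lt_add (a := (nat_lit 26980)) (n := (nat_lit 380)) (b := (nat_lit 27360)) h cb26980 rfl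
  have h := zero_lt_add (a := (nat_lit 27360)) (n := (nat_lit 380)) (b := (nat_lit 27740)) h cb27360 rfl
  have h := zero_lt_add (a := (nat_lit 27740)) (n := (nat_lit 380)) (b := (nat_lit 28120)) h cb27740 rfl
  have h := zero_lt_add (a := (nat_lit 28120)) (n := (nat_lit 380)) (b := (nat_lit 28500)) h cb28120 rfl
  have h := zero_lt_add (a := (nat_lit 28500)) (n := (nat_lit 380)) (b := (nat_lit 28880)) h cb28500 rfl
  have h := zero_lt_add (a := (nat_lit 28880)) (n := (nat_lit 380)) (b := (nat_lit 29260)) h cb28880 rfl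
  have h := zero_lt_add (a := (nat_lit 29260)) (n := (nat_lit 380)) (b := (nat_lit 29640)) h cb29260 rfl
  have h := zero_lt_add (a := (nat_lit 29640)) (n := (nat_lit 380)) (b := (nat_lit 30020)) h cb29640 rfl
  have h := zero_lt_add (a := (nat_lit 30020)) (n := (nat_lit 380)) (b := (nat_lit 30400)) h cb30020 rfl
  have h := zero_lt_add (a := (nat_lit 30400)) (n := (nat_lit 380)) (b := (nat_lit 30780)) h cb30400 rfl
  have h := zero_lt_add (a := (nat_lit 30780)) (n := (nat_lit 380)) (b := (nat_lit 31160)) h cb30780 rfl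
  have h := zero_lt_add (a := (nat_lit 31160)) (n := (nat_lit 380)) (b := (nat_lit 31540)) h cb31160 rfl
  have h := zero_lt_add (a := (nat_lit 31540)) (n := (nat_lit 380)) (b := (nat_lit 31920)) h cb31540 rfl
  have h := zero_lt_add (a := (nat_lit 31920)) (n := (nat_lit 380)) (b := (nat_lit 32300)) h cb31920 rfl
  have h := zero_lt_add (a := (nat_lit 32300)) (n := (nat_lit 380)) (b := (nat_lit 32680)) h cb32300 rfl
  have h := zero_lt_add (a := (nat_lit 32680)) (n := (nat_lit 380)) (b := (nat_lit 33060)) h cb32680 rfl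
  have h := zero_lt_add (a := (nat_lit 33060)) (n := (nat_lit 380)) (b := (nat_lit 33440)) h cb33060 rfl
  have h := zero_lt_add (a := (nat_lit 33440)) (n := (nat_lit 380)) (b := (nat_lit 33820)) h cb33440 rfl
  have h := zero_lt_add (a := (nat_lit 33820)) (n := (nat_lit 380)) (b := (nat_lit 34200)) h cb33820 rfl
  have h := zero_lt_add (a := (nat_lit 34200)) (n := (nat_lit 380)) (b := (nat_lit 34580)) h cb34200 rfl
  have h := zero_lt_add (a := (nat_lit 34580)) (n := (nat_lit 380)) (b := (nat_lit 34960)) h cb34580 rfl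
  have h := zero_lt_add (a := (nat_lit 34960)) (n := (nat_lit 380)) (b := (nat_lit 35340)) h cb34960 rfl
  have h := zero_lt_add (a := (nat_lit 35340)) (n := (nat_lit 380)) (b := (nat_lit 35720)) h cb35340 rfl
  have h := zero_lt_add (a := (nat_lit 35720)) (n := (nat_lit 380)) (b := (nat_lit 36100)) h cb35720 rfl
  have h := zero_lt_add (a := (nat_lit 36100)) (n := (nat_lit 380)) (b := (nat_lit 36480)) h cb36100 rfl
  have h := zero_lt_add (a := (nat_lit 36480)) (n := (nat_lit 380)) (b := (nat_lit 36860)) h cb36480 rfl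
  have h := zero_lt_add (a := (nat_lit 36860)) (n := (nat_lit 380)) (b := (nat_lit 37240)) h cb36860 rfl
  have h := zero_lt_add (a := (nat_lit 37240)) (n := (nat_lit 380)) (b := (nat_lit 37620)) h cb37240 rfl
  have h := zero_lt_add (a := (nat_lit 37620)) (n := (nat_lit 380)) (b := (nat_lit 38000)) h cb37620 rfl
  have h := zero_lt_add (a := (nat_lit 38000)) (n := (nat_lit 380)) (b := (nat_lit 38380)) h cb38000 rfl
  have h := zero_lt_add (a := (nat_lit 38380)) (n := (nat_lit 380)) (b := (nat_lit 38760)) h cb38380 rfl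
  have h := zero_lt_add (a := (nat_lit 38760)) (n := (nat_lit 380)) (b := (nat_lit 39140)) h cb38760 rfl
  have h := zero_lt_add (a := (nat_lit 39140)) (n := (nat_lit 380)) (b := (nat_lit 39520)) h cb39140 rfl
  have h := zero_lt_add (a := (nat_lit 39520)) (n := (nat_lit 380)) (b := (nat_lit 39900)) h cb39520 rfl
  have h := zero_lt_add (a := (nat_lit 39900)) (n := (nat_lit 380)) (b := (nat_lit 40280)) h cb39900 rfl
  have h := zero_lt_add (a := (nat_lit 40280)) (n := (nat_lit 380)) (b := (nat_lit 40660)) h cb40280 rfl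
  have h := zero_lt_add (a := (nat_lit 40660)) (n := (nat_lit 380)) (b := (nat_lit 41040)) h cb40660 rfl
  have h := zero_lt_add (a := (nat_lit 41040)) (n := (nat_lit 380)) (b := (nat_lit 41420)) h cb41040 rfl
  have h := zero_lt_add (a := (nat_lit 41420)) (n := (nat_lit 380)) (b := (nat_lit 41800)) h cb41420 rfl
  have h := zero_lt_add (a := (nat_lit 41800)) (n := (nat_lit 380)) (b := (nat_lit 42180)) h cb41800 rfl
  have h := zero_lt_add (a := (nat_lit 42180)) (n := (nat_lit 380)) (b := (nat_lit 42560)) h cb42180 rfl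
  have h := zero_lt_add (a := (nat_lit 42560)) (n := (nat_lit 380)) (b := (nat_lit 42940)) h cb42560 rfl
  have h := zero_lt_add (a := (nat_lit 42940)) (n := (nat_lit 380)) (b := (nat_lit 43320)) h cb42940 rfl
  have h := zero_lt_add (a := (nat_lit 43320)) (n := (nat_lit 380)) (b := (nat_lit 43700)) h cb43320 rfl
  have h := zero_lt_add (a := (nat_lit 43700)) (n := (nat_lit 380)) (b := (nat_lit 44080)) h cb43700 rfl
  have h := zero_lt_add (a := (nat_lit 44080)) (n := (nat_lit 380)) (b := (nat_lit 44460)) h cb44080 rfl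
  have h := zero_lt_add (a := (nat_lit 44460)) (n := (nat_lit 380)) (b := (nat_lit 44840)) h cb44460 rfl
  have h := zero_lt_add (a := (nat_lit 44840)) (n := (nat_lit 380)) (b := (nat_lit 45220)) h cb44840 rfl
  have h := zero_lt_add (a := (nat_lit 45220)) (n := (nat_lit 380)) (b := (nat_lit 45600)) h cb45220 rfl
  have h := zero_lt_add (a := (nat_lit 45600)) (n := (nat_lit 380)) (b := (nat_lit 45980)) h cb45600 rfl
  have h := zero_lt_add (a := (nat_lit 45980)) (n := (nat_lit 380)) (b := (nat_lit 46360)) h cb45980 rfl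
  have h := zero_lt_add (a := (nat_lit 46360)) (n := (nat_lit 380)) (b := (nat_lit 46740)) h cb46360 rfl
  have h := zero_lt_add (a := (nat_lit 46740)) (n := (nat_lit 380)) (b := (nat_lit 47120)) h cb46740 rfl
  have h := zero_lt_add (a := (nat_lit 47120)) (n := (nat_lit 380)) (b := (nat_lit 47500)) h cb47120 rfl
  have h := zero_lt_add (a := (nat_lit 47500)) (n := (nat_lit 380)) (b := (nat_lit 47880)) h cb47500 rfl
  have h := zero_lt_add (a := (nat_lit 47880)) (n := (nat_lit 380)) (b := (nat_lit 48260)) h cb47880 rfl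
  have h := zero_lt_add (a := (nat_lit 48260)) (n := (nat_lit 380)) (b := (nat_lit 48640)) h cb48260 rfl
  have h := zero_lt_add (a := (nat_lit 48640)) (n := (nat_lit 380)) (b := (nat_lit 49020)) h cb48640 rfl
  have h := zero_lt_add (a := (nat_lit 49020)) (n := (nat_lit 380)) (b := (nat_lit 49400)) h cb49020 rfl
  have h := zero_lt_add (a := (nat_lit 49400)) (n := (nat_lit 380)) (b := (nat_lit 49780)) h cb49400 rfl
  have h := zero_lt_add (a := (nat_lit 49780)) (n := (nat_lit 380)) (b := (nat_lit 50160)) h cb49780 rfl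
  have h := zero_lt_add (a := (nat_lit 50160)) (n := (nat_lit 380)) (b := (nat_lit 50540)) h cb50160 rfl
  have h := zero_lt_add (a := (nat_lit 50540)) (n := (nat_lit 380)) (b := (nat_lit 50920)) h cb50540 rfl
  have h := zero_lt_add (a := (nat_lit 50920)) (n := (nat_lit 380)) (b := (nat_lit 51300)) h cb50920 rfl
  have h := zero_lt_add (a := (nat_lit 51300)) (n := (nat_lit 380)) (b := (nat_lit 51680)) h cb51300 rfl
  have h := zero_lt_add (a := (nat_lit 51680)) (n := (nat_lit 380)) (b := (nat_lit 52060)) h cb51680 rfl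
  have h := zero_lt_add (a := (nat_lit 52060)) (n := (nat_lit 380)) (b := (nat_lit 52440)) h cb52060 rfl
  have h := zero_lt_add (a := (nat_lit 52440)) (n := (nat_lit 380)) (b := (nat_lit 52820)) h cb52440 rfl
  have h := zero_lt_add (a := (nat_lit 52820)) (n := (nat_lit 380)) (b := (nat_lit 53200)) h cb52820 rfl
  have h := zero_lt_add (a := (nat_lit 53200)) (n := (nat_lit 380)) (b := (nat_lit 53580)) h cb53200 rfl
  have h := zero_lt_add (a := (nat_lit 53580)) (n := (nat_lit 380)) (b := (nat_lit 53960)) h cb53580 rfl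
  have h := zero_lt_add (a := (nat_lit 53960)) (n := (nat_lit 380)) (b := (nat_lit 54340)) h cb53960 rfl
  have h := zero_lt_add (a := (nat_lit 54340)) (n := (nat_lit 380)) (b := (nat_lit 54720)) h cb54340 rfl
  have h := zero_lt_add (a := (nat_lit 54720)) (n := (nat_lit 380)) (b := (nat_lit 55100)) h cb54720 rfl
  have h := zero_lt_add (a := (nat_lit 55100)) (n := (nat_lit 380)) (b := (nat_lit 55480)) h cb55100 rfl
  have h := zero_lt_add (a := (nat_lit 55480)) (n := (nat_lit 380)) (b := (nat_lit 55860)) h cb55480 rfl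
  have h := zero_lt_add (a := (nat_lit 55860)) (n := (nat_lit 380)) (b := (nat_lit 56240)) h cb55860 rfl
  have h := zero_lt_add (a := (nat_lit 56240)) (n := (nat_lit 380)) (b := (nat_lit 56620)) h cb56240 rfl
  have h := zero_lt_add (a := (nat_lit 56620)) (n := (nat_lit 380)) (b := (nat_lit 57000)) h cb56620 rfl
  have h := zero_lt_add (a := (nat_lit 57000)) (n := (nat_lit 380)) (b := (nat_lit 57380)) h cb57000 rfl
  have h := zero_lt_add (a := (nat_lit 57380)) (n := (nat_lit 380)) (b := (nat_lit 57760)) h cb57380 rfl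
  have h := zero_lt_add (a := (nat_lit 57760)) (n := (nat_lit 380)) (b := (nat_lit 58140)) h cb57760 rfl
  have h := zero_lt_add (a := (nat_lit 58140)) (n := (nat_lit 380)) (b := (nat_lit 58520)) h cb58140 rfl
  have h := zero_lt_add (a := (nat_lit 58520)) (n := (nat_lit 380)) (b := (nat_lit 58900)) h cb58520 rfl
  have h := zero_lt_add (a := (nat_lit 58900)) (n := (nat_lit 380)) (b := (nat_lit 59280)) h cb58900 rfl
  have h := zero_lt_add (a := (nat_lit 59280)) (n := (nat_lit 380)) (b := (nat_lit 59660)) h cb59280 rfl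
  have h := zero_lt_add (a := (nat_lit 59660)) (n := (nat_lit 380)) (b := (nat_lit 60040)) h cb59660 rfl
  have h := zero_lt_add (a := (nat_lit 60040)) (n := (nat_lit 380)) (b := (nat_lit 60420)) h cb60040 rfl
  have h := zero_lt_add (a := (nat_lit 60420)) (n := (nat_lit 380)) (b := (nat_lit 60800)) h cb60420 rfl
  have h := zero_lt_add (a := (nat_lit 60800)) (n := (nat_lit 380)) (b := (nat_lit 61180)) h cb60800 rfl
  have h := zero_lt_add (a := (nat_lit 61180)) (n := (nat_lit 380)) (b := (nat_lit 61560)) h cb61180 rfl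
  have h := zero_lt_add (a := (nat_lit 61560)) (n := (nat_lit 216)) (b := (nat_lit 61776)) h cb61560 rfl
  exact h
theorem lok : LoK (Cfsg.Spor.Fi22) 3 := lok_mono P22.top ub22 P22.cx.inv rl22 (M := 185327) (N := 61776) rfl (by decide +kernel) h1 h2
  (u := [nat_lit 8, nat_lit 3, nat_lit 2, nat_lit 4, nat_lit 2, nat_lit 3, nat_lit 6, nat_lit 5, nat_lit 6, nat_lit 0, nat_lit 8, nat_lit 5, nat_lit 1, nat_lit 2, nat_lit 3, nat_lit 2, nat_lit 1, nat_lit 0, nat_lit 5, nat_lit 3, nat_lit 2, nat_lit 4, nat_lit 2, nat_lit 3, nat_lit 1, nat_lit 2, nat_lit 7, nat_lit 4, nat_lit 7, nat_lit 2, nat_lit 1, nat_lit 3, nat_lit 2, nat_lit 4, nat_lit 2, nat_lit 3, nat_lit 5, nat_lit 0, nat_lit 1, nat_lit 2, nat_lit 3, nat_lit 2, nat_lit 1, nat_lit 5, nat_lit 8, nat_lit 0, nat_lit 6, nat_lit 1, nat_lit 2, nat_lit 3, nat_lit 2, nat_lit 1, nat_lit 5, nat_lit 3, nat_lit 2, nat_lit 4, nat_lit 2, nat_lit 3, nat_lit 7, nat_lit 0, nat_lit 1, nat_lit 2, nat_lit 4, nat_lit 2, nat_lit 1,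 nat_lit 0, nat_lit 7, nat_lit 3, nat_lit 2, nat_lit 4, nat_lit 2, nat_lit 3, nat_lit 5, nat_lit 1, nat_lit 2, nat_lit 3, nat_lit 2, nat_lit 1, nat_lit 5, nat_lit 3, nat_lit 2, nat_lit 4, nat_lit 2, nat_lit 3, nat_lit 5, nat_lit 7, nat_lit 1, nat_lit 2, nat_lit 3, nat_lit 2, nat_lit 1, nat_lit 5, nat_lit 2, nat_lit 0, nat_lit 1, nat_lit 2, nat_lit 4, nat_lit 2, nat_lit 1, nat_lit 8, nat_lit 0, nat_lit 1, nat_lit 2, nat_lit 3, nat_lit 2, nat_lit 1, nat_lit 7, nat_lit 5, nat_lit 6, nat_lit 0, nat_lit 1, nat_lit 2, nat_lit 4, nat_lit 5, nat_lit 3, nat_lit 2, nat_lit 5, nat_lit 0, nat_lit 8, nat_lit 3, nat_lit 4, nat_lit 2, nat_lit 1, nat_lit 0, nat_lit 5, nat_lit 3, nat_lit 2, nat_lit 1, nat_lit 0, nat_lit 8, nat_lit 2, nat_lit 6, nat_lit 5, nat_lit 3, nat_lit 2, nat_lit 7, nat_lit 4, nat_lit 2, nat_lit 1, nat_lit 0, nat_lit 8, nat_lit 3, nat_lit 2, nat_lit 1, nat_lit 5, nat_lit 2, nat_lit 7]) (v := [nat_lit 6, nat_lit 5, nat_lit 3, nat_lit 2, nat_lit 4, nat_lit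 2, nat_lit 3, nat_lit 5, nat_lit 6, nat_lit 0, nat_lit 1, nat_lit 2, nat_lit 4, nat_lit 5, nat_lit 3, nat_lit 2, nat_lit 1, nat_lit 5, nat_lit 6, nat_lit 3, nat_lit 2, nat_lit 4, nat_lit 2, nat_lit 3, nat_lit 5, nat_lit 1, nat_lit 2, nat_lit 3, nat_lit 2, nat_lit 1, nat_lit 0, nat_lit 2, nat_lit 8, nat_lit 7, nat_lit 5, nat_lit 3, nat_lit 2, nat_lit 4, nat_lit 2, nat_lit 3, nat_lit 7, nat_lit 0, nat_lit 1, nat_lit 2, nat_lit 3, nat_lit 2, nat_lit 1, nat_lit 0, nat_lit 8, nat_lit 1, nat_lit 2, nat_lit 4, nat_lit 2, nat_lit 1, nat_lit 0, nat_lit 5, nat_lit 3, nat_lit 2, nat_lit 4, nat_lit 2, nat_lit 3, nat_lit 6, nat_lit 5, nat_lit 1, nat_lit 2, nat_lit 3, nat_lit 2, nat_lit 1, nat_lit 3, nat_lit 2, nat_lit 4, nat_lit 2, nat_lit 3, nat_lit 7, nat_lit 1, nat_lit 2, nat_lit 4, nat_lit 2, nat_lit 1, nat_lit 6, nat_lit 5, nat_lit 6, nat_lit 0, nat_lit 8, nat_lit 1, nat_lit 2, nat_lit 4, nat_lit 3, nat_lit 2, nat_lit 1, nat_lit 7, nat_lit 0, nat_lit 1, nat_lit 2, nat_lit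 3, nat_lit 4, nat_lit 8, nat_lit 5, nat_lit 3, nat_lit 2, nat_lit 1, nat_lit 0, nat_lit 1, nat_lit 2, nat_lit 4, nat_lit 2, nat_lit 1, nat_lit 7, nat_lit 3, nat_lit 2, nat_lit 4, nat_lit 2, nat_lit 3, nat_lit 5, nat_lit 8, nat_lit 0, nat_lit 7, nat_lit 2, nat_lit 1, nat_lit 0, nat_lit 8, nat_lit 3, nat_lit 4, nat_lit 2, nat_lit 1, nat_lit 0, nat_lit 5, nat_lit 3, nat_lit 2, nat_lit 7, nat_lit 4, nat_lit 2, nat_lit 1, nat_lit 3, nat_lit 2, nat_lit 7, nat_lit 4, nat_lit 6, nat_lit 5, nat_lit 3, nat_lit 2, nat_lit 1, nat_lit 4, nat_lit 2]) (by decide +kernel) (eq22 (by decide +kernel))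

end Cfsg.Agent.Ct.Fi22s.C3
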