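import Cfsg.Agent.Lib.Cert.Fi22s.C3D

set_option autoImplicit false
set_option maxRecDepth 100000

namespace Cfsg.Agent.Ct.Fi22s.C3

open Cfsg.Agent.PC

theorem ca0 : Nat.beq (rng f1 (nat_lit 0) (nat_lit 8333)) (nat_lit 0) = true := by decide +kernel
theorem ca8333 : Nat.beq (rng f1 (nat_lit 8333) (nat_lit 8333)) (nat_lit 0) = true := by decide +kernel
theorem ca16666 : Nat.beq (rng f1 (nat_lit 16666) (nat_lit 8333)) (nat_lit 0) = true := by decide +kernel
theorem ca24999 : Nat.beq (rng f1 (nat_lit 24999) (nat_lit 8333)) (nat_lit 0) = true := by decide +kernel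
theorem ca33332 : Nat.beq (rng f1 (nat_lit 33332) (nat_lit 8333)) (nat_lit 0) = true := by decide +kernel
theorem ca41665 : Nat.beq (rng f1 (nat_lit 41665) (nat_lit 8333)) (nat_lit 0) = true := by decide +kernel
theorem ca49998 : Nat.beq (rng f1 (nat_lit 49998) (nat_lit 8333)) (nat_lit 0) = true := by decide +kernel
theorem ca58331 : Nat.beq (rng f1 (nat_lit 58331) (nat_lit 8333)) (nat_lit 0) = true := by decide +kernel
theorem ca66664 : Nat.beq (rng f1 (nat_lit 66664) (nat_lit 8333)) (nat_lit 0) = true := by decide +kernel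
theorem ca74997 : Nat.beq (rng f1 (nat_lit 74997) (nat_lit 8333)) (nat_lit 0) = true := by decide +kernel

end Cfsg.Agent.Ct.Fi22s.C3
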