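import Cfsg.Agent.Lib.Cert.Fi22s.C3D

set_option autoImplicit false
set_option maxRecDepth 100000

namespace Cfsg.Agent.Ct.Fi22s.C3

open Cfsg.Agent.PC

theorem cb36860 : Nat.beq (rng f2 (nat_lit 36860) (nat_lit 380)) (nat_lit 0) = true := by decide +kernel
theorem cb37240 : Nat.beq (rng f2 (nat_lit 37240) (nat_lit 380)) (nat_lit 0) = true := by decide +kernel
theorem cb37620 : Nat.beq (rng f2 (nat_lit 37620) (nat_lit 380)) (nat_lit 0) = true := by decide +kernel
theorem cb38000 : Nat.beq (rng f2 (nat_lit 38000) (nat_lit 380)) (nat_lit 0) = true := by decide +kernel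
theorem cb38380 : Nat.beq (rng f2 (nat_lit 38380) (nat_lit 380)) (nat_lit 0) = true := by decide +kernel
theorem cb38760 : Nat.beq (rng f2 (nat_lit 38760) (nat_lit 380)) (nat_lit 0) = true := by decide +kernel
theorem cb39140 : Nat.beq (rng f2 (nat_lit 39140) (nat_lit 380)) (nat_lit 0) = true := by decide +kernel
theorem cb39520 : Nat.beq (rng f2 (nat_lit 39520) (nat_lit 380)) (nat_lit 0) = true := by decide +kernel
theorem cb39900 : Nat.beq (rng f2 (nat_lit 39900) (nat_lit 380)) (nat_lit 0) = true := by decide +kernel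
theorem cb40280 : Nat.beq (rng f2 (nat_lit 40280) (nat_lit 380)) (nat_lit 0) = true := by decide +kernel

end Cfsg.Agent.Ct.Fi22s.C3
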