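import Cfsg.Agent.Lib.Cert.Fi22s.S2R0
import Cfsg.Agent.Lib.Cert.Fi22s.S2R1

set_option autoImplicit false
set_option maxRecDepth 100000

namespace Cfsg.Agent.Ct.Fi22s.S2

open Cfsg.Agent.PC

open Cfsg.Agent.Fi Cfsg.Agent.Ct
theorem h1 : ∀ i < 201, f1 i = 0 := by
  have h := zero_lt_zero f1
  have h := zero_lt_add (a := (nat_lit 0)) (n := (nat_lit 181)) (b := (nat_lit 181)) h ra0 rfl
  have h := zero_lt_add (a := (nat_lit 181)) (n := (nat_lit 20)) (b := (nat_lit 201)) h ra181 rfl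
  exact h
theorem h2 : ∀ i < 331, f2 i = 0 := by
  have h := zero_lt_zero f2
  have h := zero_lt_add (a := (nat_lit 0)) (n := (nat_lit 48)) (b := (nat_lit 48)) h rb0 rfl
  have h := zero_lt_add (a := (nat_lit 48)) (n := (nat_lit 48)) (b := (nat_lit 96)) h rb48 rfl
  have h := zero_lt_add (a := (nat_lit 96)) (n := (nat_lit 47)) (b := (nat_lit 143)) h rb96 rfl
  have h := zero_lt_add (a := (nat_lit 143)) (n := (nat_lit 47)) (b := (nat_lit 190)) h rb143 rfl
  have h := zero_lt_add (a := (nat_lit 190)) (n := (nat_lit 45)) (b := (nat_lit 235)) h rb190 rfl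
  have h := zero_lt_add (a := (nat_lit 235)) (n := (nat_lit 41)) (b := (nat_lit 276)) h rb235 rfl
  have h := zero_lt_add (a := (nat_lit 276)) (n := (nat_lit 35)) (b := (nat_lit 311)) h rb276 rfl
  have h := zero_lt_add (a := (nat_lit 311)) (n := (nat_lit 20)) (b := (nat_lit 331)) h rb311 rfl
  exact h
theorem h3 : ∀ i < 17, f3 i = 0 := by
  have h := zero_lt_zero f3
  have h := zero_lt_add (a := (nat_lit 0)) (n := (nat_lit 14)) (b := (nat_lit 14)) h rc0 rfl
  have h := zero_lt_add (a := (nat_lit 14)) (n := (nat_lit 3)) (b := (nat_lit 17)) h rc14 rfl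
  exact h
theorem h4 : ∀ i < 17, f4 i = 0 := by
  have h := zero_lt_zero f4
  have h := zero_lt_add (a := (nat_lit 0)) (n := (nat_lit 17)) (b := (nat_lit 17)) h rd0 rfl
  exact h
theorem nok : NoK (Cfsg.Spor.Fi22) (2 ^ (1 + 1)) := fun _ _ _ _ h =>
  (md.rv (I := I) (K := 201) rfl ⟨rfl, by decide⟩ (upTo_beq (by decide +kernel)) h1).core h (by norm_num)
    (md.syl (by norm_num) rfl (by decide) h4) (by rw [P22.card]; decide) (n := 4) (s := 1) (e := e) (L := Le) (C := C)
    ⟨rfl, by decide, rfl, by decide, by decide, rfl, by decide⟩ h2 (upTo_beq (by decide +kernel)) (upTo_beq (by decide +kernel)) h3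

end Cfsg.Agent.Ct.Fi22s.S2
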