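import Cfsg.Agent.Lib.Cert.FiM
import Cfsg.Agent.Lib.Cert.Sch2

set_option autoImplicit false
set_option maxRecDepth 100000

namespace Cfsg.Agent.Ct.Fi22s.S5

open Cfsg.Agent.PC

open Cfsg.Agent.Fi Cfsg.Agent.Ct
def W_t : TL := (TL.node (TL.node (TL.node (TL.leaf []) (TL.leaf [nat_lit 7, nat_lit 3, nat_lit 10, nat_lit 3, nat_lit 7, nat_lit 15, nat_lit 13, nat_lit 9, nat_lit 13, nat_lit 12, nat_lit 5, nat_lit 12, nat_lit 15, nat_lit 8, nat_lit 13, nat_lit 12, nat_lit 13, nat_lit 0, nat_lit 5, nat_lit 9, nat_lit 0, nat_lit 2, nat_lit 8, nat_lit 7, nat_lit 1, nat_lit 14, nat_lit 11, nat_lit 12, nat_lit 10])) (TL.node (TL.leaf [nat_lit 8, nat_lit 5, nat_lit 4, nat_lit 5, nat_lit 8, nat_lit 7, nat_lit 13, nat_lit 12, nat_lit 13, nat_lit 7, nat_lit 15, nat_lit 13, nat_lit 9, nat_lit 13, nat_lit 15, nat_lit 8, nat_lit 2, nat_lit 7, nat_lit 14, nat_lit 12, nat_lit 14, nat_lit 5, nat_lit 14, nat_lit 13, nat_lit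 5, nat_lit 0, nat_lit 12, nat_lit 13]) (TL.leaf [nat_lit 13, nat_lit 10, nat_lit 2, nat_lit 13, nat_lit 10, nat_lit 2, nat_lit 12, nat_lit 10, nat_lit 2, nat_lit 12, nat_lit 10, nat_lit 2, nat_lit 9, nat_lit 0, nat_lit 14, nat_lit 12, nat_lit 14, nat_lit 9, nat_lit 15, nat_lit 3, nat_lit 4, nat_lit 5, nat_lit 4, nat_lit 0, nat_lit 9, nat_lit 8, nat_lit 14, nat_lit 4, nat_lit 12]))) (TL.node (TL.node (TL.leaf [nat_lit 13, nat_lit 11, nat_lit 10, nat_lit 5, nat_lit 10, nat_lit 11, nat_lit 13, nat_lit 5, nat_lit 3, nat_lit 14, nat_lit 10, nat_lit 7, nat_lit 5, nat_lit 10, nat_lit 14, nat_lit 3, nat_lit 7, nat_lit 10, nat_lit 14, nat_lit 2, nat_lit 10, nat_lit 14, nat_lit 10, nat_lit 1, nat_lit 2, nat_lit 10, nat_lit 1, nat_lit 4, nat_lit 3, nat_lit 10, nat_lit 9, nat_lit 2, nat_lit 4, nat_lit 15]) (TL.leaf [nat_lit 13, nat_lit 2, nat_lit 12, nat_lit 0, nat_lit 12, nat_lit 2, nat_lit 13, nat_lit 8, nat_lit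 0, nat_lit 13, nat_lit 10, nat_lit 2, nat_lit 13, nat_lit 10, nat_lit 2, nat_lit 5, nat_lit 3, nat_lit 10, nat_lit 3, nat_lit 5, nat_lit 0, nat_lit 2, nat_lit 6, nat_lit 13, nat_lit 6, nat_lit 0, nat_lit 7, nat_lit 14, nat_lit 4, nat_lit 3, nat_lit 10, nat_lit 14])) (TL.leaf [nat_lit 13, nat_lit 11, nat_lit 10, nat_lit 5, nat_lit 10, nat_lit 11, nat_lit 13, nat_lit 15, nat_lit 13, nat_lit 9, nat_lit 13, nat_lit 15, nat_lit 6, nat_lit 7, nat_lit 14, nat_lit 7, nat_lit 6, nat_lit 8, nat_lit 13, nat_lit 12, nat_lit 13, nat_lit 6, nat_lit 13, nat_lit 6, nat_lit 12, nat_lit 15, nat_lit 9, nat_lit 1, nat_lit 10, nat_lit 11, nat_lit 4, nat_lit 9, nat_lit 5, nat_lit 1])))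
noncomputable def W (i : ℕ) : List ℕ := TL.get W_t i
def B : List ℕ := [nat_lit 2, nat_lit 173, nat_lit 2544, nat_lit 2895, nat_lit 2068, nat_lit 3016]
noncomputable def q (j : ℕ) : Cfsg.Spor.Fi22 := ev g22 (W j)
noncomputable def Q (j : ℕ) : ℕ → ℕ := trF X22.T (W j)
theorem md : Md c22 3510 B q Q 7 := (mf22).words' (by decide +kernel)
def I (i : ℕ) : ℕ := Nat.land (Nat.shiftRight (nat_lit 0x601c000000000000000000000000000000000000000000000000000000000000000000000000000000000000000000000000000000000000000000000000000000000000000000000000000000000000401400000000000000000000000000000000000000000000000000000000000000000000000000000000000000000000000000000000000000000000000000000000000000000000000000000000000030000000000000000000000000000000000000000000000000000000000000000000000000000000000000000000000000000000000000000000000000000000000000000000000000000000000000002004000000000000000000000000000000000000000000000000000000000000000000000000000000000000000000000000000000000000000000000000000000000000000000000000000000000000000000)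 (Nat.mul (nat_lit 10) i)) (nat_lit 1023)
def Ru_t : TN := (TN.node (TN.node (TN.node (TN.leaf (nat_lit 0)) (TN.leaf (nat_lit 0xc10820820000000000c2182))) (TN.node (TN.leaf (nat_lit 0x42000000000042082)) (TN.leaf (nat_lit 0x101041082000000000102182)))) (TN.node (TN.node (TN.leaf (nat_lit 0x1041041005)) (TN.leaf (nat_lit 0xc10000000000c1082))) (TN.node (TN.leaf (nat_lit 0x2082082005)) (TN.leaf (nat_lit 0x101041000000000101102)))))
noncomputable def Ru (i : ℕ) : ℕ := TN.get Ru_t i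
def D_t : TN := (TN.node (TN.node (TN.leaf (nat_lit 0x200000001)) (TN.leaf (nat_lit 0x1000000000000000300000003))) (TN.leaf (nat_lit 0x30000000000000002)))
noncomputable def D (i : ℕ) : ℕ := TN.get D_t i
def La_t1 : TN := (TN.node (TN.node (TN.node (TN.node (TN.leaf (nat_lit 2)) (TN.leaf (nat_lit 768))) (TN.node (TN.leaf (nat_lit 0)) (TN.leaf (nat_lit 0)))) (TN.node (TN.node (TN.leaf (nat_lit 0)) (TN.leaf (nat_lit 0))) (TN.node (TN.leaf (nat_lit 0)) (TN.leaf (nat_lit 0))))) (TN.node (TN.node (TN.node (TN.leaf (nat_lit 0)) (TN.leaf (nat_lit 0))) (TN.node (TN.leaf (nat_lit 0)) (TN.leaf (nat_lit 0)))) (TN.node (TN.node (TN.leaf (nat_lit 0)) (TN.leaf (nat_lit 0))) (TN.node (TN.leaf (nat_lit 0)) (TN.leaf (nat_lit 0))))))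
def La_t2 : TN := (TN.node (TN.node (TN.node (TN.node (TN.leaf (nat_lit 0)) (TN.leaf (nat_lit 0))) (TN.node (TN.leaf (nat_lit 0)) (TN.leaf (nat_lit 0)))) (TN.node (TN.node (TN.leaf (nat_lit 0)) (TN.leaf (nat_lit 0))) (TN.node (TN.leaf (nat_lit 0)) (TN.leaf (nat_lit 0))))) (TN.node (TN.node (TN.node (TN.leaf (nat_lit 0)) (TN.leaf (nat_lit 0))) (TN.node (TN.leaf (nat_lit 0)) (TN.leaf (nat_lit 0)))) (TN.node (TN.node (TN.leaf (nat_lit 0)) (TN.leaf (nat_lit 0))) (TN.node (TN.leaf (nat_lit 0)) (TN.leaf (nat_lit 0))))))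
def La_t3 : TN := (TN.node La_t1 La_t2)
def La_t4 : TN := (TN.node (TN.node (TN.node (TN.node (TN.leaf (nat_lit 0)) (TN.leaf (nat_lit 262148))) (TN.node (TN.leaf (nat_lit 0)) (TN.leaf (nat_lit 0)))) (TN.node (TN.node (TN.leaf (nat_lit 0)) (TN.leaf (nat_lit 0))) (TN.node (TN.leaf (nat_lit 0)) (TN.leaf (nat_lit 0))))) (TN.node (TN.node (TN.node (TN.leaf (nat_lit 0)) (TN.leaf (nat_lit 0))) (TN.node (TN.leaf (nat_lit 0)) (TN.leaf (nat_lit 0)))) (TN.node (TN.node (TN.leaf (nat_lit 0)) (TN.leaf (nat_lit 0))) (TN.node (TN.leaf (nat_lit 0)) (TN.leaf (nat_lit 0))))))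
def La_t5 : TN := (TN.node (TN.node (TN.node (TN.node (TN.leaf (nat_lit 0)) (TN.leaf (nat_lit 0))) (TN.node (TN.leaf (nat_lit 0)) (TN.leaf (nat_lit 0)))) (TN.node (TN.node (TN.leaf (nat_lit 0)) (TN.leaf (nat_lit 0))) (TN.node (TN.leaf (nat_lit 0)) (TN.leaf (nat_lit 0))))) (TN.node (TN.node (TN.node (TN.leaf (nat_lit 0)) (TN.leaf (nat_lit 0))) (TN.node (TN.leaf (nat_lit 0)) (TN.leaf (nat_lit 0)))) (TN.node (TN.node (TN.leaf (nat_lit 0)) (TN.leaf (nat_lit 0))) (TN.node (TN.leaf (nat_lit 0)) (TN.leaf (nat_lit 0))))))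
def La_t6 : TN := (TN.node La_t4 La_t5)
def La_t : TN := (TN.node La_t3 La_t6)
noncomputable def La (i : ℕ) : ℕ := TN.get La_t i
def Le_t : TN := (TN.leaf (nat_lit 0))
noncomputable def Le (i : ℕ) : ℕ := TN.get Le_t i
def C_t1 : TN := (TN.node (TN.node (TN.node (TN.node (TN.leaf (nat_lit 0)) (TN.leaf (nat_lit 0))) (TN.node (TN.leaf (nat_lit 0)) (TN.leaf (nat_lit 0)))) (TN.node (TN.node (TN.leaf (nat_lit 0)) (TN.leaf (nat_lit 0))) (TN.node (TN.leaf (nat_lit 0)) (TN.leaf (nat_lit 0))))) (TN.node (TN.node (TN.node (TN.leaf (nat_lit 0)) (TN.leaf (nat_lit 0))) (TN.node (TN.leaf (nat_lit 0)) (TN.leaf (nat_lit 0)))) (TN.node (TN.node (TN.leaf (nat_lit 0)) (TN.leaf (nat_lit 0))) (TN.node (TN.leaf (nat_lit 0)) (TN.leaf (nat_lit 0))))))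
def C_t2 : TN := (TN.node (TN.node (TN.node (TN.node (TN.leaf (nat_lit 0)) (TN.leaf (nat_lit 0))) (TN.node (TN.leaf (nat_lit 0)) (TN.leaf (nat_lit 0)))) (TN.node (TN.node (TN.leaf (nat_lit 0)) (TN.leaf (nat_lit 0))) (TN.node (TN.leaf (nat_lit 0)) (TN.leaf (nat_lit 0))))) (TN.node (TN.node (TN.node (TN.leaf (nat_lit 0)) (TN.leaf (nat_lit 0))) (TN.node (TN.leaf (nat_lit 0)) (TN.leaf (nat_lit 0)))) (TN.node (TN.node (TN.leaf (nat_lit 0)) (TN.leaf (nat_lit 0))) (TN.node (TN.leaf (nat_lit 0)) (TN.leaf (nat_lit 0))))))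
def C_t3 : TN := (TN.node C_t1 C_t2)
def C_t4 : TN := (TN.node (TN.node (TN.node (TN.node (TN.leaf (nat_lit 0)) (TN.leaf (nat_lit 0))) (TN.node (TN.leaf (nat_lit 0)) (TN.leaf (nat_lit 0)))) (TN.node (TN.node (TN.leaf (nat_lit 0)) (TN.leaf (nat_lit 0))) (TN.node (TN.leaf (nat_lit 0)) (TN.leaf (nat_lit 0))))) (TN.node (TN.node (TN.node (TN.leaf (nat_lit 0)) (TN.leaf (nat_lit 0))) (TN.node (TN.leaf (nat_lit 0)) (TN.leaf (nat_lit 0)))) (TN.node (TN.node (TN.leaf (nat_lit 0)) (TN.leaf (nat_lit 0))) (TN.node (TN.leaf (nat_lit 0)) (TN.leaf (nat_lit 0))))))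
def C_t5 : TN := (TN.node (TN.node (TN.node (TN.node (TN.leaf (nat_lit 0)) (TN.leaf (nat_lit 0))) (TN.node (TN.leaf (nat_lit 0)) (TN.leaf (nat_lit 0)))) (TN.node (TN.node (TN.leaf (nat_lit 0)) (TN.leaf (nat_lit 0))) (TN.node (TN.leaf (nat_lit 0)) (TN.leaf (nat_lit 0))))) (TN.node (TN.node (TN.node (TN.leaf (nat_lit 0)) (TN.leaf (nat_lit 0))) (TN.node (TN.leaf (nat_lit 0)) (TN.leaf (nat_lit 0)))) (TN.node (TN.node (TN.leaf (nat_lit 0)) (TN.leaf (nat_lit 0))) (TN.node (TN.leaf (nat_lit 0)) (TN.leaf (nat_lit 0))))))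
def C_t6 : TN := (TN.node C_t4 C_t5)
def C_t : TN := (TN.node C_t3 C_t6)
noncomputable def C (i : ℕ) : ℕ := TN.get C_t i
def e (i : ℕ) : ℕ := Nat.land (Nat.shiftRight (nat_lit 0) (Nat.mul (nat_lit 1) i)) (nat_lit 1)
def U_t : TL := (TL.node (TL.node (TL.leaf [nat_lit 4]) (TL.leaf [nat_lit 4])) (TL.leaf [nat_lit 3]))
noncomputable def U (i : ℕ) : List ℕ := TL.get U_t i
def V1_t : TL := (TL.node (TL.node (TL.leaf [nat_lit 1, nat_lit 1, nat_lit 1, nat_lit 1, nat_lit 1]) (TL.leaf [nat_lit 2, nat_lit 2, nat_lit 2, nat_lit 2, nat_lit 2])) (TL.leaf [nat_lit 1, nat_lit 2]))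
noncomputable def V1 (i : ℕ) : List ℕ := TL.get V1_t i
def V2_t : TL := (TL.node (TL.node (TL.leaf []) (TL.leaf [])) (TL.leaf [nat_lit 2, nat_lit 1]))
noncomputable def V2 (i : ℕ) : List ℕ := TL.get V2_t i
def Y_t : TL := (TL.node (TL.leaf [nat_lit 2, nat_lit 1, nat_lit 1]) (TL.leaf [nat_lit 1]))
noncomputable def Y (i : ℕ) : List ℕ := TL.get Y_t i
def O_t : TL := (TL.node (TL.leaf [nat_lit 0]) (TL.leaf [nat_lit 246]))
noncomputable def O (i : ℕ) : List ℕ := TL.get O_t i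
noncomputable def f1 : ℕ → ℕ := rvE Q B (nat_lit 7) Ru
noncomputable def f2 (j : ℕ) : ℕ := rlE I Ru (nat_lit 8) (nat_lit 5) (U j) (V1 j) (V2 j) (D j)
noncomputable def f3 : ℕ → ℕ := tgR I Ru (nat_lit 8) (nat_lit 5) (nat_lit 5) C D (nat_lit 3) La
noncomputable def f4 : ℕ → ℕ := chE Q B (nat_lit 3510) (nat_lit 7) (nat_lit 2) (nat_lit 5) Y O
theorem ra0 : Nat.beq (rng f1 (nat_lit 0) (nat_lit 8)) (nat_lit 0) = true := by decide +kernel
theorem rb0 : Nat.beq (rng f2 (nat_lit 0) (nat_lit 3)) (nat_lit 0) = true := by decide +kernel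
theorem rc0 : Nat.beq (rng f3 (nat_lit 0) (nat_lit 2)) (nat_lit 0) = true := by decide +kernel
theorem rd0 : Nat.beq (rng f4 (nat_lit 0) (nat_lit 2)) (nat_lit 0) = true := by decide +kernel
theorem h1 : ∀ i < 8, f1 i = 0 := by
  have h := zero_lt_zero f1
  have h := zero_lt_add (a := (nat_lit 0)) (n := (nat_lit 8)) (b := (nat_lit 8)) h ra0 rfl
  exact h
theorem h2 : ∀ i < 3, f2 i = 0 := by
  have h := zero_lt_zero f2
  have h := zero_lt_add (a := (nat_lit 0)) (n := (nat_lit 3)) (b := (nat_lit 3)) h rb0 rfl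
  exact h
theorem h3 : ∀ i < 2, f3 i = 0 := by
  have h := zero_lt_zero f3
  have h := zero_lt_add (a := (nat_lit 0)) (n := (nat_lit 2)) (b := (nat_lit 2)) h rc0 rfl
  exact h
theorem h4 : ∀ i < 2, f4 i = 0 := by
  have h := zero_lt_zero f4
  have h := zero_lt_add (a := (nat_lit 0)) (n := (nat_lit 2)) (b := (nat_lit 2)) h rd0 rfl
  exact h
theorem nok : NoK (Cfsg.Spor.Fi22) (5 ^ (0 + 1)) := fun _ _ _ _ h =>
  (md.rv (I := I) (K := 8) rfl ⟨rfl, by decide⟩ (upTo_beq (by decide +kernel)) h1).core h (by norm_num)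
    (md.syl (by norm_num) rfl (by decide) h4) (by rw [P22.card]; decide) (n := 5) (s := 0) (e := e) (L := Le) (C := C)
    ⟨rfl, by decide, rfl, by decide, by decide, rfl, by decide⟩ h2 (upTo_beq (by decide +kernel)) (upTo_beq (by decide +kernel)) h3

end Cfsg.Agent.Ct.Fi22s.S5
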